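import Cfsg.Agent.Lib.Classical.GeoFour.SU.Tuples
import Cfsg.Agent.Lib.Classical.UFrameMax.Main

/-!
# Frames of four-dimensional unitary spaces

Overgroups of the monomial group without elements that fix a frame line and are not monomial are monomial.
The columns of a non-monomial element have no zero entry; a column `x` then is orthogonal to four different
images `h x` under monomial elements `h`, all of which would have to be columns of the same element.
-/

set_option autoImplicit false
set_option linter.unusedSectionVars false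

open Module
open CfsgLib.Classical CfsgLib.Classical.UFrameMax

namespace CfsgLib.Classical.GeoFour.SU

variable {F : Type*} [Field F] [DecidableEq F] [Fintype F] {V : Type*} [AddCommGroup V] [Module F V]
  [FiniteDimensional F V] {σ : F →+* F} {B : V →ₛₗ[σ] V →ₗ[F] F} {e : Basis (Fin 4) F V}
  {M : Subgroup (isomGroup B)}

/-- Elements of norm one outside the small roots of unity. -/
theorem exists_good_phase (hc : IsConjugation σ) (hq : 4 ≤ (fixS σ).card) :
    ∃ l : F, l * σ l = 1 ∧ l * l ≠ 1 ∧ l * l * l ≠ 1 ∧ l ^ 4 ≠ 1 := by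
  obtain ⟨g, hg⟩ := IsCyclic.exists_generator (α := (normHom σ).ker)
  have hord : orderOf g = (fixS σ).card + 1 := by
    rw [orderOf_eq_card_of_forall_mem_zpowers hg, ← card_circ_ker, card_circ hc]
  have hne : ∀ k : ℕ, 0 < k → k ≤ 4 → ((g.1 : Fˣ) : F) ^ k ≠ 1 := fun k h1 h2 h => by
    have h' : g ^ k = 1 := Subtype.ext (Units.ext (by simpa using h))
    have := orderOf_le_of_pow_eq_one h1 h'
    omega
  refine ⟨((g.1 : Fˣ) : F), congrArg Units.val (MonoidHom.mem_ker.1 g.2), ?_, ?_, hne 4 (by omega) le_rfl⟩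
  · rw [← pow_two]; exact hne 2 (by omega) (by omega)
  · rw [show ((g.1 : Fˣ) : F) * (g.1 : Fˣ) * (g.1 : Fˣ) = ((g.1 : Fˣ) : F) ^ 3 by ring]
    exact hne 3 (by omega) (by omega)

variable (S : FSetting B e M) (hL : ∀ h ∈ M, ∀ i, ∀ l : F, h.1 (e i) = l • e i → Mono e h)
include S hL

/-- A column in a frame line. -/
theorem mono_of_supp_one {g : isomGroup B} (hg : g ∈ M) {i : Fin 4} (hi : (supp e (g.1 (e i))).card ≤ 1) :
    Mono e g := by
  have : Nonempty (Fin 4) := ⟨i⟩
  obtain ⟨j, hj⟩ := Finset.card_le_one_iff_subset_singleton.1 hi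
  obtain ⟨k, hk⟩ := S.exists_fresh {i, j} (lt_of_le_of_lt Finset.card_le_two (by norm_num))
  obtain ⟨m, hm, d', -, hme⟩ := S.exists_mono (Equiv.swap i j) (fun _ => 1) (fun _ => by simp) k
  have h1 : (m * g).1 (e i) = (e.repr (g.1 (e i)) j * d' j) • e i := by
    change m.1 (g.1 (e i)) = _
    conv_lhs => rw [supp_single hj, map_smul, hme, Equiv.swap_apply_right, smul_smul]
  have h3 := FSetting.mono_mul (S.mono_inv (fun a => ⟨_, _, hme a⟩ : Mono e m)) (hL _ (M.mul_mem hm hg) i _ h1)
  rwa [inv_mul_cancel_left] at h3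

omit hL in
theorem mono_of_inv {g : isomGroup B} (h : Mono e g⁻¹) : Mono e g := by simpa using S.mono_inv h

/-- No column has exactly two nonzero entries. -/
theorem supp_ne_two (hq : 4 ≤ (fixS σ).card) {g : isomGroup B} (hg : g ∈ M) (hgm : ¬ Mono e g) (a : Fin 4) :
    (supp e (g.1 (e a))).card ≠ 2 := fun h2 => by
  obtain ⟨l, hl, hl2, hl3, hl4⟩ := exists_good_phase S.conj hq
  set x := g.1 (e a) with hx
  obtain ⟨c, d, hcd, hcd'⟩ := Finset.card_eq_two.1 (show (supp e x)ᶜ.card = 2 by
    rw [Finset.card_compl, Fintype.card_fin, h2])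
  have hc : e.repr x c = 0 := notMem_supp.1 (Finset.mem_compl.1 (by rw [hcd']; simp))
  have hd : e.repr x d = 0 := notMem_supp.1 (Finset.mem_compl.1 (by rw [hcd']; simp))
  -- diagonal elements on two coordinates
  have hdiag : ∀ {c d : Fin 4}, c ≠ d → ∃ D ∈ M, Mono e D ∧ ∀ y,
      D.1 y = y + ((l - 1) * B (e c) y) • e c + ((σ l - 1) * B (e d) y) • e d := fun {c d} hcd => by
    let v : Fin 4 → F := fun k => if k = c then l else if k = d then σ l else 1
    obtain ⟨D, hD, hDd⟩ := S.exists_diag v fun k => by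
      simp only [v]; split_ifs <;> first | exact hl | exact S.norm_sigma hl | simp
    refine ⟨D, S.mem D (by
      rw [hDd, ← Finset.prod_subset (Finset.subset_univ {c, d}) fun k _ hk => by
        simp only [Finset.mem_insert, Finset.mem_singleton, not_or] at hk
        simp [v, hk.1, hk.2], Finset.prod_pair hcd]
      simpa [v, Ne.symm hcd] using hl) fun k => ⟨k, v k, hD k⟩, fun k => ⟨k, v k, hD k⟩, fun y => ?_⟩
    rw [S.coord, S.coord]
    refine e.repr.injective (Finsupp.ext fun k => ?_)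
    rw [show e.repr (D.1 y) k = v k * e.repr y k from FSetting.repr_mono 1 v hD y k, map_add, map_add, Finsupp.add_apply,
      Finsupp.add_apply, repr_smul_basis, repr_smul_basis]
    simp only [v]
    split_ifs with h1 h3
    · exact absurd (h1.symm.trans h3) hcd
    · subst h1; ring
    · subst_vars; ring
    · ring
  have hconj : ∀ {k : isomGroup B} {D : isomGroup B} {c d : Fin 4},
      (∀ y, D.1 y = y + ((l - 1) * B (e c) y) • e c + ((σ l - 1) * B (e d) y) • e d) → ∀ y,
      (k * D * k⁻¹).1 y = y + ((l - 1) * B (k.1 (e c)) y) • k.1 (e c) + ((σ l - 1) * B (k.1 (e d)) y) • k.1 (e d) :=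
    fun {k D c d} hD y => by
      obtain ⟨z, rfl⟩ := k.1.surjective y
      change k.1 (D.1 (k.1.symm (k.1 z))) = _
      rw [LinearEquiv.symm_apply_apply, hD, map_add, map_add, map_smul, map_smul, isomGroup_apply, isomGroup_apply]
  have hon : ∀ (k : isomGroup B) {c d : Fin 4}, c ≠ d →
      B (k.1 (e c)) (k.1 (e c)) = 1 ∧ B (k.1 (e d)) (k.1 (e d)) = 1 ∧ B (k.1 (e c)) (k.1 (e d)) = 0 :=
    fun k {c d} hcd => ⟨by rw [isomGroup_apply, S.on, if_pos rfl], by rw [isomGroup_apply, S.on, if_pos rfl],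
      by rw [isomGroup_apply, S.on, if_neg hcd]⟩
  obtain ⟨D, hDM, -, hD⟩ := hdiag hcd
  have hgi := M.inv_mem hg
  have hy : (g⁻¹ * D * g⁻¹⁻¹).1 (e a) = (1 : F) • e a := by
    rw [inv_inv]
    change g.1.symm (D.1 (g.1 (e a))) = _
    rw [hD, S.coord, S.coord, ← hx, hc, hd, hx]
    simp
  have hm1 := hL _ (M.mul_mem (M.mul_mem hgi hDM) (M.inv_mem hgi)) a 1 hy
  obtain ⟨h1, h1', h1''⟩ := hon g⁻¹ hcd
  rcases S.pair_coord hl hl2 hl3 h1 h1' h1'' hm1 (hconj hD) with ⟨hs, -⟩ | ⟨hs, hs2⟩
  · exact hgm (mono_of_inv S (mono_of_supp_one S hL hgi hs.le))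
  obtain ⟨u, v, huv, huv'⟩ := Finset.card_eq_two.1 hs2
  set p := (g⁻¹ : isomGroup B).1 (e c) with hp
  set r := (g⁻¹ : isomGroup B).1 (e d) with hr
  have hspan : ∀ w ∈ ({u, v} : Finset (Fin 4)), ∃ α β : F, e w = α • p + β • r := fun w hw => by
    have hle : Submodule.span F {p, r} ≤ cspan e {u, v} := Submodule.span_le.2 (by
      rintro z (rfl | rfl)
      · exact mem_cspan.2 huv'.le
      · exact mem_cspan.2 (by rw [← hs]; exact huv'.le))
    have hfr : finrank F (Submodule.span F {p, r}) = 2 := by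
      have hli : LinearIndependent F ![p, r] := by
        rw [LinearIndependent.pair_iff]
        intro s t hst
        have e1 := congrArg (B p) hst
        have e2 := congrArg (B r) hst
        simp [h1, h1', h1'', S.herm.isRefl _ _ h1''] at e1 e2
        exact ⟨e1, e2⟩
      have := finrank_span_eq_card hli
      rw [show Set.range ![p, r] = {p, r} by simp [Matrix.range_cons, Matrix.range_empty, Set.pair_comm]] at this
      simpa using this
    have heq := Submodule.eq_of_le_of_finrank_eq hle (by rw [hfr, finrank_cspan, Finset.card_pair huv])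
    obtain ⟨α, β, h⟩ := Submodule.mem_span_pair.1 (heq.symm ▸ basis_mem_cspan hw : e w ∈ Submodule.span F {p, r})
    exact ⟨α, β, h.symm⟩
  have hgp : g.1 p = e c := g.1.apply_symm_apply _
  have hgr : g.1 r = e d := g.1.apply_symm_apply _
  have hgw : ∀ w ∈ ({u, v} : Finset (Fin 4)), supp e (g.1 (e w)) ⊆ {c, d} := fun w hw => by
    obtain ⟨α, β, h⟩ := hspan w hw
    rw [h, map_add, map_smul, map_smul, hgp, hgr, supp_subset_iff]
    intro k hk
    simp only [Finset.mem_insert, Finset.mem_singleton, not_or] at hk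
    rw [map_add, Finsupp.add_apply, repr_smul_basis, repr_smul_basis, if_neg hk.1, if_neg hk.2, add_zero]
  obtain ⟨b, hb, hbcd⟩ := Finset.exists_mem_notMem_of_card_lt_card (s := ({c, d} : Finset (Fin 4)))
    (t := Finset.univ) (by rw [Finset.card_univ, Fintype.card_fin]; exact lt_of_le_of_lt Finset.card_le_two (by norm_num))
  simp only [Finset.mem_insert, Finset.mem_singleton, not_or] at hbcd
  obtain ⟨D', hDM', -, hD'⟩ := hdiag huv
  obtain ⟨h3, h3', h3''⟩ := hon g huv
  have hyb : (g * D' * g⁻¹).1 (e b) = (1 : F) • e b := by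
    have hz : ∀ w ∈ ({u, v} : Finset (Fin 4)), B (g.1 (e w)) (e b) = 0 := fun w hw => by
      rw [← S.herm.symm (e b), S.coord, supp_subset_iff.1 (hgw w hw) b (by simp [hbcd.1, hbcd.2]), map_zero]
    rw [hconj hD', hz u (by simp), hz v (by simp)]
    simp
  have hm2 := hL _ (M.mul_mem (M.mul_mem hg hDM') hgi) b 1 hyb
  have hsu : supp e (g.1 (e u)) = {c, d} ∧ supp e (g.1 (e v)) = {c, d} := by
    refine ⟨Finset.eq_of_subset_of_card_le (hgw u (by simp)) ?_, Finset.eq_of_subset_of_card_le (hgw v (by simp)) ?_⟩ <;>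
      rw [Finset.card_pair hcd]
    · exact Nat.succ_le_of_lt (Nat.lt_of_not_le fun h => hgm (mono_of_supp_one S hL hg h))
    · exact Nat.succ_le_of_lt (Nat.lt_of_not_le fun h => hgm (mono_of_supp_one S hL hg h))
  obtain ⟨π, f, hf, hπ⟩ := S.mono_data hm2
  set X := g.1 (e u) with hX
  set Y := g.1 (e v) with hY
  have hXe : (g * D' * g⁻¹).1 X = l • X := by
    rw [hconj hD', h3, S.herm.isRefl _ _ h3'']
    module
  have hYe : (g * D' * g⁻¹).1 Y = σ l • Y := by
    rw [hconj hD', h3'', h3']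
    module
  have eX : ∀ i, l * e.repr X (π i) = f i * e.repr X i := fun i => by
    rw [← FSetting.repr_mono π f hπ, hXe, map_smul, Finsupp.smul_apply, smul_eq_mul]
  have eY : ∀ i, σ l * e.repr Y (π i) = f i * e.repr Y i := fun i => by
    rw [← FSetting.repr_mono π f hπ, hYe, map_smul, Finsupp.smul_apply, smul_eq_mul]
  have hne : ∀ {Z : V}, supp e Z = {c, d} → e.repr Z c ≠ 0 ∧ e.repr Z d ≠ 0 := fun hZ =>
    ⟨mem_supp.1 (by rw [hZ]; simp), mem_supp.1 (by rw [hZ]; simp)⟩
  have hl0 := norm_ne_zero_of hl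
  have hπc : π c ∈ supp e X := mem_supp.2 fun h => by
    have := eX c
    rw [h, mul_zero] at this
    exact mul_ne_zero (norm_ne_zero_of (hf c)) (hne hsu.1).1 this.symm
  rw [hsu.1, Finset.mem_insert, Finset.mem_singleton] at hπc
  rcases hπc with hπc | hπc
  · have e1 := eX c
    have e2 := eY c
    rw [hπc] at e1 e2
    have e3 : l = σ l := (mul_right_cancel₀ (hne hsu.1).1 e1).trans (mul_right_cancel₀ (hne hsu.2).1 e2).symm
    rw [← e3] at hl
    exact hl2 hl
  · have hπd : π d = c := by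
      have h' : π d ∈ supp e X := mem_supp.2 fun h => by
        have := eX d
        rw [h, mul_zero] at this
        exact mul_ne_zero (norm_ne_zero_of (hf d)) (hne hsu.1).2 this.symm
      rw [hsu.1, Finset.mem_insert, Finset.mem_singleton] at h'
      exact h'.resolve_right fun h => hcd (π.injective (hπc.trans h.symm))
    have prod : ∀ {m : F} {Z : V}, supp e Z = {c, d} → (∀ i, m * e.repr Z (π i) = f i * e.repr Z i) →
        m * m = f c * f d := fun {m Z} hZ hm => by
      have e1 := hm c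
      have e2 := hm d
      rw [hπc] at e1
      rw [hπd] at e2
      refine mul_right_cancel₀ (hne hZ).1 ?_
      linear_combination m * e2 + f d * e1
    have e3 : σ l * σ l = l * l := (prod hsu.2 eY).trans (prod hsu.1 eX).symm
    exact hl4 (by linear_combination (l * σ l + 1) * hl - (l * l) * e3)

/-- Non-monomial elements of `M` have no zero entry. -/
theorem no_zero (hq : 4 ≤ (fixS σ).card) {g : isomGroup B} (hg : g ∈ M) (hgm : ¬ Mono e g) (a k : Fin 4) :
    e.repr (g.1 (e a)) k ≠ 0 := fun hk => by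
  obtain ⟨l, hl, -, -, hl4⟩ := exists_good_phase S.conj hq
  set x := g.1 (e a) with hx
  have hlt : (supp e x).card < 4 := by
    have h1 := Finset.card_lt_card (show supp e x ⊂ Finset.univ from
      (Finset.ssubset_iff_of_subset (Finset.subset_univ _)).2 ⟨k, Finset.mem_univ _, notMem_supp.2 hk⟩)
    rwa [Finset.card_univ, Fintype.card_fin] at h1
  have hgi := M.inv_mem hg
  have hgim : ¬ Mono e g⁻¹ := fun h => hgm (mono_of_inv S h)
  have hl0 := norm_ne_zero_of hl
  -- a diagonal element with a simple eigenvalue at `k`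
  obtain ⟨D, hDM, d', hd', hD, -⟩ := S.exists_diag' (fun _ => l) (fun _ => hl) k
  have hd3 : ∀ y, D.1 y = l • y + ((d' k - l) * B (e k) y) • e k := fun y => by
    refine e.repr.injective (Finsupp.ext fun i => ?_)
    rw [show e.repr (D.1 y) i = d' i * e.repr y i from FSetting.repr_mono 1 d' hD y i, S.coord, map_add, Finsupp.add_apply,
      repr_smul_basis, map_smul, Finsupp.smul_apply, smul_eq_mul]
    split_ifs with h
    · subst h; ring
    · rw [hd' i h, add_zero]
  have hμ : d' k ≠ l := fun h => hl4 (by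
    have h1 : idet B D = 1 := MonoidHom.mem_ker.1 (S.le hDM)
    obtain ⟨D₂, hD₂, hD₂d⟩ := S.exists_diag d' (fun i => S.norm_one (hD i))
    have : D₂ = D := Subtype.ext (LinearEquiv.toLinearMap_injective (e.ext fun i => (hD₂ i).trans (hD i).symm))
    rw [this, h1] at hD₂d
    have hall : ∀ i, d' i = l := fun i => by
      rcases eq_or_ne i k with rfl | hi
      · exact h
      · exact hd' i hi
    rw [Finset.prod_congr rfl fun i _ => hall i, Finset.prod_const, Finset.card_univ, Fintype.card_fin] at hD₂d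
    exact hD₂d.symm)
  set y := g⁻¹ * D * g with hy
  set z := (g⁻¹ : isomGroup B).1 (e k) with hz
  have hyu : ∀ u, y.1 u = l • u + ((d' k - l) * B z u) • z := fun u => by
    change g.1.symm (D.1 (g.1 u)) = _
    rw [hd3, map_add, map_smul, map_smul, LinearEquiv.symm_apply_apply]
    have : B (e k) (g.1 u) = B z u := by
      rw [← isomGroup_apply g z u, show g.1 z = e k from g.1.apply_symm_apply _]
    rw [this]
    rfl
  have hBz : ∀ i, B z (e i) = σ (e.repr z i) := fun i => by rw [← S.herm.symm (e i), S.coord]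
  have hza : B z (e a) = 0 := by
    rw [← isomGroup_apply g, show g.1 z = e k from g.1.apply_symm_apply _, S.coord, ← hx, hk]
  have hmono : Mono e y := hL _ (M.mul_mem (M.mul_mem hgi hDM) hg) a l (by
    rw [hyu, hza]; simp)
  have hz2 : (supp e z).card ≤ 2 := by
    by_contra! h3
    obtain ⟨i, hi⟩ := Finset.card_pos.1 (show 0 < (supp e z).card by omega)
    have h1 := hmono.card_le i
    have h2 : (supp e z).erase i ⊆ supp e (y.1 (e i)) := fun j hj => by
      obtain ⟨hji, hj'⟩ := Finset.mem_erase.1 hj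
      rw [mem_supp, hyu, map_add, Finsupp.add_apply, repr_smul_basis, if_neg hji, zero_add, map_smul,
        Finsupp.smul_apply, smul_eq_mul, hBz]
      exact mul_ne_zero (mul_ne_zero (sub_ne_zero.2 hμ) fun h' => mem_supp.1 hi (S.sigma_eq_zero h'))
        (mem_supp.1 hj')
    have h4 := Finset.card_le_card h2
    rw [Finset.card_erase_of_mem hi] at h4
    omega
  rcases Nat.lt_or_ge (supp e z).card 2 with h1 | h2
  · exact hgim (mono_of_supp_one S hL hgi (i := k) (Nat.le_of_lt_succ h1))
  · exact supp_ne_two S hL hq hgi hgim k (le_antisymm hz2 h2)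

omit hL in
/-- The monomial element attached to a quadruple. -/
theorem exists_swap_elt {x : V} (hx : ∀ k, e.repr x k ≠ 0) {t : Fin 4 → F}
    (ht : Good σ (σ (e.repr x 0) * e.repr x 0 * (σ (e.repr x 1) * e.repr x 1))
      (σ (e.repr x 2) * e.repr x 2 * (σ (e.repr x 3) * e.repr x 3)) t) :
    ∃ h ∈ M, B x (h.1 x) = 0 ∧
      ∀ k, σ (e.repr x k) * e.repr (h.1 x) k = t (![1, 0, 3, 2] k) := by
  let π : Equiv.Perm (Fin 4) := Equiv.swap 0 1 * Equiv.swap 2 3
  have hπ : π 0 = 1 ∧ π 1 = 0 ∧ π 2 = 3 ∧ π 3 = 2 := ⟨by decide, by decide, by decide, by decide⟩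
  set X := fun k => e.repr x k with hX
  have hσX : ∀ k, σ (X k) ≠ 0 := fun k h => hx k (S.sigma_eq_zero h)
  let d : Fin 4 → F := fun k => t k / (σ (X (π k)) * X k)
  have hd : ∀ k, d k * σ (d k) = 1 := fun k => by
    have h0 : σ (X (π k)) * X k ≠ 0 := mul_ne_zero (hσX _) (hx k)
    have h0' : σ (σ (X (π k)) * X k) ≠ 0 := fun h => h0 (S.sigma_eq_zero h)
    simp only [d, map_div₀]
    rw [div_mul_div_comm, div_eq_one_iff_eq (mul_ne_zero h0 h0'), map_mul, S.conj.invol]
    fin_cases k <;> simp only [Fin.zero_eta, Fin.mk_one, Fin.reduceFinMk, hπ, hX]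
    · rw [ht.n0]; ring
    · rw [ht.n1]; ring
    · rw [ht.n2]; ring
    · rw [ht.n3]; ring
  obtain ⟨p, hp⟩ := S.herm.witt_family S.sep (a := fun i => e i) (b := fun i => e (π i)) e.linearIndependent
    (e.linearIndependent.comp _ π.injective) fun i j => by simp [S.on, π.injective.eq_iff]
  obtain ⟨r, hr, hrd⟩ := S.exists_diag d hd
  have hpd : idet B p = 1 := by
    change LinearMap.det (p.1 : V →ₗ[F] V) = 1
    have hm : LinearMap.toMatrix e e (p.1 : V →ₗ[F] V) = (Equiv.Perm.permMatrix F π.symm) := by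
      ext i j
      rw [LinearMap.toMatrix_apply, LinearEquiv.coe_coe, hp, e.repr_self, Finsupp.single_apply]
      simp [Equiv.Perm.permMatrix, PEquiv.toMatrix_apply, Equiv.eq_symm_apply, eq_comm]
    rw [← LinearMap.det_toMatrix e, hm, Matrix.det_permutation]
    rw [show π.symm = π⁻¹ from rfl, Equiv.Perm.sign_inv, show Equiv.Perm.sign π = 1 by decide]
    simp
  have hpr : ∀ i, (p * r).1 (e i) = d i • e (π i) := fun i => by
    change p.1 (r.1 (e i)) = _
    rw [hr, map_smul, hp]
  refine ⟨p * r, S.mem _ ?_ fun i => ⟨π i, d i, hpr i⟩, ?_, ?_⟩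
  · rw [map_mul, hpd, one_mul, hrd, Fin.prod_univ_four]
    have := hx 0; have := hx 1; have := hx 2; have := hx 3
    have := hσX 0; have := hσX 1; have := hσX 2; have := hσX 3
    simp only [d, hπ, hX] at *
    field_simp
    linear_combination ht.prod
  · rw [S.form, Fin.sum_univ_four]
    have e0 := FSetting.repr_mono π d hpr x 0
    have e1 := FSetting.repr_mono π d hpr x 1
    have e2 := FSetting.repr_mono π d hpr x 2
    have e3 := FSetting.repr_mono π d hpr x 3
    rw [hπ.1] at e0
    rw [hπ.2.1] at e1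
    rw [hπ.2.2.1] at e2
    rw [hπ.2.2.2] at e3
    rw [e0, e1, e2, e3]
    have := hx 0; have := hx 1; have := hx 2; have := hx 3
    have := hσX 0; have := hσX 1; have := hσX 2; have := hσX 3
    simp only [d, hπ, hX] at *
    field_simp
    linear_combination ht.sum
  · have key : ∀ i, σ (e.repr x (π i)) * e.repr ((p * r).1 x) (π i) = t i := fun i => by
      rw [FSetting.repr_mono π d hpr]
      have := hx i
      have := hσX (π i)
      simp only [d, hX] at *
      field_simp
    intro k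
    have hk : π (![1, 0, 3, 2] k) = k := by fin_cases k <;> decide
    conv_lhs => rw [← hk]
    exact key _

/-- An orthogonal monomial image of a column is another column. -/
theorem image_column (hq : 4 ≤ (fixS σ).card) {g : isomGroup B} (hg : g ∈ M) {j : Fin 4} {h : isomGroup B}
    (hh : h ∈ M) (h0 : B (g.1 (e j)) (h.1 (g.1 (e j))) = 0) :
    ∃ k, k ≠ j ∧ ∃ l : F, l * σ l = 1 ∧ h.1 (g.1 (e j)) = l • g.1 (e k) := by
  set w := g⁻¹ * h * g with hw
  have hgw : g.1 (w.1 (e j)) = h.1 (g.1 (e j)) := g.1.apply_symm_apply _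
  have hjj : e.repr (w.1 (e j)) j = 0 := by rw [← S.coord, ← isomGroup_apply g, hgw, h0]
  have hm : Mono e w := by_contra fun hne =>
    no_zero S hL hq (M.mul_mem (M.mul_mem (M.inv_mem hg) hh) hg) hne j j hjj
  obtain ⟨k, l, hl⟩ := hm j
  refine ⟨k, fun hk => ?_, l, S.norm_one hl, by rw [← hgw, hl, map_smul]⟩
  rw [hl, hk, repr_smul_basis, if_pos rfl] at hjj
  exact norm_ne_zero_of (S.norm_one hl) hjj

/-- The degenerate case is impossible. -/
theorem false_of_degenerate (hq : 4 ≤ (fixS σ).card) {g : isomGroup B} (hg : g ∈ M) (j : Fin 4)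
    (hx : ∀ k, e.repr (g.1 (e j)) k ≠ 0)
    (hdeg : Degenerate σ (σ (e.repr (g.1 (e j)) 0) * e.repr (g.1 (e j)) 0 *
        (σ (e.repr (g.1 (e j)) 1) * e.repr (g.1 (e j)) 1))
      (σ (e.repr (g.1 (e j)) 2) * e.repr (g.1 (e j)) 2 *
        (σ (e.repr (g.1 (e j)) 3) * e.repr (g.1 (e j)) 3))) : False := by
  set x := g.1 (e j) with hxdef
  set n := fun k => σ (e.repr x k) * e.repr x k with hn
  obtain ⟨a, c, haf, ha, hcM, hc1, htr, htr0, hns⟩ := hdeg
  have hn0 : ∀ k, n k ≠ 0 := fun k => mul_ne_zero (fun h => hx k (S.sigma_eq_zero h)) (hx k)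
  have hnf : ∀ k, σ (n k) = n k := fun k => by simp only [hn, map_mul, S.conj.invol, mul_comm]
  change a * a = n 0 * n 1 at ha
  change c * σ c = n 2 * n 3 at hcM
  change ∀ r : F, σ r = r → r * r ≠ n 2 * n 3 at hns
  have hgood : ∀ {t : Fin 4 → F}, t 0 = a → t 1 = a → t 2 * σ (t 2) = n 2 * n 3 → t 3 * σ (t 3) = n 2 * n 3 →
      t 2 * t 3 = n 2 * n 3 → t 2 + t 3 = c + σ c → Good σ (n 0 * n 1) (n 2 * n 3) t :=
    fun h0 h1 h2 h3 hp hs => ⟨by rw [h0, haf, ha], by rw [h1, haf, ha], h2, h3,
      by rw [mul_assoc, hp, h0, h1, ha], by rw [h0, h1, add_assoc (a + a), hs, htr]⟩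
  have hσcM : σ c * c = n 2 * n 3 := by rw [mul_comm, hcM]
  obtain ⟨h, hh, hh0, hhx⟩ := exists_swap_elt S hx (t := ![a, a, σ c, c])
    (hgood rfl rfl (by simpa [S.conj.invol] using hσcM) (by simpa using hcM) (by simpa using hσcM)
      (by simp [add_comm]))
  obtain ⟨h', hh', hh0', hhx'⟩ := exists_swap_elt S hx (t := ![a, a, c, σ c])
    (hgood rfl rfl (by simpa using hcM) (by simpa [S.conj.invol] using hσcM) (by simpa using hcM) (by simp))
  obtain ⟨k, hkj, l, hl, hlk⟩ := image_column S hL hq hg hh (by rw [← hxdef]; exact hh0)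
  obtain ⟨k', hkj', l', hl', hlk'⟩ := image_column S hL hq hg hh' (by rw [← hxdef]; exact hh0')
  rw [← hxdef] at hlk hlk'
  have e2 := hhx 2
  have e2' := hhx' 2
  have e3 := hhx 3
  have e3' := hhx' 3
  have e0 := hhx 0
  have e0' := hhx' 0
  have e1 := hhx 1
  have e1' := hhx' 1
  simp at e0 e0' e1 e1' e2 e2' e3 e3'
  have hkk : k ≠ k' := fun hkk' => by
    subst hkk'
    have hlk2 : h.1 x = (l * l'⁻¹) • h'.1 x := by
      rw [hlk', hlk, smul_smul, mul_assoc, inv_mul_cancel₀ (norm_ne_zero_of hl'), mul_one]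
    rw [hlk2, map_smul, Finsupp.smul_apply, smul_eq_mul] at e0 e2
    have ha0 : a ≠ 0 := fun h' => htr0 (by simp [h'])
    have hone : l * l'⁻¹ = 1 := mul_right_cancel₀ ha0 (by rw [one_mul]; linear_combination e0 - (l * l'⁻¹) * e0')
    exact hc1 (by rw [hone] at e2; linear_combination e2 - e2')
  have horth : B (h.1 x) (h'.1 x) = 0 := by
    rw [hlk, hlk', map_smul, LinearMap.map_smulₛₗ₂, smul_eq_mul, smul_eq_mul, isomGroup_apply, S.on, if_neg hkk]
    simp
  rw [S.form, Fin.sum_univ_four] at horth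
  -- multiply each term by `n k / n k`
  have term : ∀ {k : Fin 4} {u v p p' : F}, σ (e.repr x k) * u = p → σ (e.repr x k) * v = p' →
      σ u * v * n k = σ p * p' := fun {k u v p p'} h1 h2 => by
    rw [← h1, ← h2, map_mul, S.conj.invol, hn]; ring
  have t0 := term e0 e0'
  have t1 := term e1 e1'
  have t2 := term e2 e2'
  have t3 := term e3 e3'
  rw [haf] at t0 t1
  rw [S.conj.invol] at t3
  have hsum : a * a * (n 0 + n 1) * (n 2 * n 3) + σ c * σ c * n 3 * (n 0 * n 1) + c * c * n 2 * (n 0 * n 1) = 0 := by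
    linear_combination (n 0 * n 1 * n 2 * n 3) * horth - (n 1 * n 2 * n 3) * t0 - (n 0 * n 2 * n 3) * t1 -
      (n 0 * n 1 * n 3) * t2 - (n 0 * n 1 * n 2) * t3
  have hsum' := congrArg σ hsum
  simp only [map_add, map_mul, map_zero, haf, hnf, S.conj.invol] at hsum'
  have h5 : (c * c - σ c * σ c) * (n 3 - n 2) = 0 := mul_left_cancel₀ (mul_ne_zero (hn0 0) (hn0 1)) (by
    rw [mul_zero]; linear_combination hsum' - hsum)
  rcases mul_eq_zero.1 h5 with h6 | h6
  · rcases mul_self_eq_mul_self_iff.1 (sub_eq_zero.1 h6) with h7 | h7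
    · exact hc1 h7.symm
    · exact htr0 (by linear_combination htr - h7)
  · exact hns (n 2) (hnf 2) (by linear_combination -(n 2) * h6)

/-- Every element is monomial. -/
theorem mono_of_no_fix (hq : 4 ≤ (fixS σ).card) {g : isomGroup B} (hg : g ∈ M) : Mono e g := by
  by_contra hgm
  set x := g.1 (e 0) with hxdef
  have hx : ∀ k, e.repr x k ≠ 0 := fun k => no_zero S hL hq hg hgm 0 k
  set n := fun k => σ (e.repr x k) * e.repr x k with hn
  have hn0 : ∀ k, n k ≠ 0 := fun k => mul_ne_zero (fun h => hx k (S.sigma_eq_zero h)) (hx k)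
  have hnf : ∀ k, σ (n k) = n k := fun k => by simp only [hn, map_mul, S.conj.invol, mul_comm]
  obtain ⟨l, hl, -, -, hl4⟩ := exists_good_phase S.conj hq
  rcases tuples_or_degenerate S.conj (m := n 0 * n 1) (M := n 2 * n 3) (by rw [map_mul, hnf, hnf])
      (by rw [map_mul, hnf, hnf]) (mul_ne_zero (hn0 0) (hn0 1)) (mul_ne_zero (hn0 2) (hn0 3)) hl hl4 with
    ⟨t, ht, htne⟩ | hdeg | hdeg
  · choose h hh hh0 hhx using fun i => exists_swap_elt S hx (ht i)
    choose f hf c hc hfc using fun i => image_column S hL hq hg (hh i) (by rw [← hxdef]; exact hh0 i)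
    have hinj : Function.Injective f := fun i i' hii => by
      by_contra hne
      refine htne i i' hne (c i * (c i')⁻¹) (funext fun k => ?_)
      have hk : ∀ k : Fin 4, (![1, 0, 3, 2] : Fin 4 → Fin 4) (![1, 0, 3, 2] k) = k := by decide
      rw [Pi.smul_apply, smul_eq_mul, ← hk k, ← hhx i, ← hhx i', hxdef, hfc i, hfc i', hii, map_smul, map_smul,
        Finsupp.smul_apply, Finsupp.smul_apply, smul_eq_mul, smul_eq_mul]
      have := norm_ne_zero_of (hc i')
      field_simp
    have hsurj := (Finite.injective_iff_surjective.1 hinj) 0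
    obtain ⟨i, hi⟩ := hsurj
    exact hf i hi
  · exact false_of_degenerate S hL hq hg 0 hx hdeg
  · -- exchange the two pairs of coordinates
    let π : Equiv.Perm (Fin 4) := Equiv.swap 0 2 * Equiv.swap 1 3
    obtain ⟨m, hm, d, -, hmd⟩ := S.exists_mono π (fun _ => 1) (fun _ => by simp) 0
    have hrep : ∀ i, e.repr ((m * g).1 (e 0)) (π i) = d i * e.repr x i := fun i => FSetting.repr_mono π d hmd x i
    have hN : ∀ i, σ (e.repr ((m * g).1 (e 0)) (π i)) * e.repr ((m * g).1 (e 0)) (π i) = n i := fun i => by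
      rw [hrep, hn, map_mul]
      linear_combination (σ (e.repr x i) * e.repr x i) * (S.norm_one (hmd i))
    have p0 : π 2 = 0 := by decide
    have p1 : π 3 = 1 := by decide
    have p2 : π 0 = 2 := by decide
    have p3 : π 1 = 3 := by decide
    have n0 := hN 2; have n1 := hN 3; have n2 := hN 0; have n3 := hN 1
    rw [p0] at n0; rw [p1] at n1; rw [p2] at n2; rw [p3] at n3
    refine false_of_degenerate S hL hq (M.mul_mem hm hg) 0 (fun k => ?_) (by rw [n0, n1, n2, n3]; exact hdeg)
    obtain ⟨i, rfl⟩ := π.surjective k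
    rw [hrep]
    exact mul_ne_zero (norm_ne_zero_of (S.norm_one (hmd i))) (hx i)

end CfsgLib.Classical.GeoFour.SU
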