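import Cfsg.Agent.Lib.Classical.GeoFour.SU.Frame

/-!
# Frame stabilisers are maximal in `SU 4 q` for `q ≠ 3`
-/

set_option autoImplicit false
set_option linter.unusedSectionVars false

open Module
open CfsgLib.Classical CfsgLib.Classical.UFrameMax

namespace CfsgLib.Classical.GeoFour.SU

variable {F : Type*} [Field F] [DecidableEq F] [Fintype F] {V : Type*} [AddCommGroup V] [Module F V]
  [FiniteDimensional F V] {σ : F →+* F} {B : V →ₛₗ[σ] V →ₗ[F] F} {e : Basis (Fin 4) F V}
  {M : Subgroup (isomGroup B)} (S : FSetting B e M)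
include S

/-- Large fields. -/
theorem sIsom_le_frame_four (hq : 4 ≤ (fixS σ).card) (hbig : BigFixed σ) {g : isomGroup B} (hg : g ∈ M)
    (hgm : ¬ Mono e g) : sIsom B ≤ M := by
  by_cases hL : ∀ h ∈ M, ∀ i, ∀ l : F, h.1 (e i) = l • e i → Mono e h
  · exact absurd (mono_of_no_fix S hL hq hg) hgm
  · push Not at hL
    obtain ⟨h, hM, i, l, hi, hh⟩ := hL
    obtain ⟨p, hpp, hp, hp0, j, hj⟩ := S.axis_of_fix hbig hM hi hh
    exact S.sIsom_le_of_axis hbig hpp hp hp0 hj

/-- The field with four elements. -/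
theorem sIsom_le_frame_two (hb : ¬ BigFixed σ) {g : isomGroup B} (hg : g ∈ M) (hgm : ¬ Mono e g) : sIsom B ≤ M := by
  classical
  obtain ⟨a, b, l, hab, hl, hs⟩ := S.exists_spread hgm
  set q := e a + l • e b with hq
  have hs2 : supp e q = {a, b} := by
    ext i
    rw [mem_supp, hq, map_add, Finsupp.add_apply, ← one_smul F (e a), repr_smul_basis, repr_smul_basis]
    by_cases hia : i = a
    · simp [hia, hab]
    by_cases hib : i = b
    · simp [hib, Ne.symm hab, norm_ne_zero_of hl]
    simp [hia, hib]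
  have hqq : B q q = 0 := by
    rw [S.self_card hb, hs2, Finset.card_pair hab]
    simpa using S.two_eq hb
  have hq' : IsTAxis M q := S.pair_axis hb (by rw [hs2, Finset.card_pair hab])
  set p := g.1 q with hp
  have hpp : B p p = 0 := by rw [hp, isomGroup_apply]; exact hqq
  have hle : ∀ y : V, (supp e y).card ≤ 4 := fun y => by simpa using Finset.card_le_univ (supp e y)
  have hp4 : (supp e p).card = 4 := by
    obtain ⟨k, hk⟩ := S.card_even hb hpp
    have := hle p
    omega
  have hfull : ∀ {y : V}, (supp e y).card = 4 → ∀ i, e.repr y i ≠ 0 := fun {y} hy i => mem_supp.1 (by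
    rw [Finset.eq_univ_of_card (supp e y) (by rw [hy, Fintype.card_fin])]; exact Finset.mem_univ i)
  refine S.herm.sIsom_le_of_axes S.sep (by rw [Module.finrank_eq_card_basis e, Fintype.card_fin]) fun v hv => ?_
  obtain ⟨k, hk⟩ := S.card_even hb hv
  have hv4 := hle v
  rcases (show (supp e v).card = 0 ∨ (supp e v).card = 2 ∨ (supp e v).card = 4 by omega) with h0 | h0 | h0
  · rw [eq_zero_iff_supp.1 (Finset.card_eq_zero.1 h0)]; exact S.herm.isTAxis_zero M
  · exact S.pair_axis hb h0
  have hnorm := (small_facts S.conj hb).2.1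
  let d : Fin 4 → F := fun i => e.repr v i / e.repr p i
  have hd0 : ∀ i, d i ≠ 0 := fun i => div_ne_zero (hfull h0 i) (hfull hp4 i)
  set lam := (∏ i, d i)⁻¹ with hlam
  have hlam0 : lam ≠ 0 := inv_ne_zero (Finset.prod_ne_zero_iff.2 fun i _ => hd0 i)
  have hc4 : (fixS σ).card = 2 := by
    refine le_antisymm (le_trans (Finset.card_le_card (t := {0, 1}) fun x hx => ?_) Finset.card_le_two)
      (two_le_fix S.conj)
    rcases eq_or_ne x 0 with rfl | h
    · simp
    · simp [fixed_eq_one hb (mem_fixS.1 hx) h]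
  have hpow : lam ^ 3 = 1 := by
    have := FiniteField.pow_card_sub_one_eq_one lam hlam0
    rwa [card_fix_sq S.conj, hc4] at this
  obtain ⟨D, hD, hDd⟩ := S.exists_diag (fun i => lam * d i) fun i => hnorm _ (mul_ne_zero hlam0 (hd0 i))
  have hDM : D ∈ M := S.mem D (by
    rw [hDd, Finset.prod_mul_distrib, Finset.prod_const, Finset.card_univ, Fintype.card_fin, pow_succ, hpow,
      one_mul, hlam, inv_mul_cancel₀ (Finset.prod_ne_zero_iff.2 fun i _ => hd0 i)]) fun i => ⟨i, _, hD i⟩
  have hDp : D.1 p = lam • v := e.repr.injective (Finsupp.ext fun i => by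
    rw [show e.repr (D.1 p) i = lam * d i * e.repr p i from FSetting.repr_mono 1 _ hD p i, map_smul,
      Finsupp.smul_apply, smul_eq_mul, mul_assoc, div_mul_cancel₀ _ (hfull hp4 i)])
  have h1 := (hq'.map hg).map hDM
  rw [← hp, hDp] at h1
  simpa [smul_smul, inv_mul_cancel₀ hlam0] using h1.smul S.conj.invol (inv_ne_zero hlam0)

end CfsgLib.Classical.GeoFour.SU

namespace CfsgLib.Classical.GeoFour.SU

/-- Stabilisers of orthonormal frames are maximal in `SU 4 q` for `q ≠ 3`. -/
theorem frame_maximal {F : Type*} [Field F] [Fintype F] {q : ℕ} (hF : Fintype.card F = q ^ 2) (hq : q ≠ 3)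
    {D : Fin 4 → Submodule F (Fin 4 → F)}
    (hD : Cfsg.Geo.IsNondegenerateMDecomposition (Cfsg.hermForm 4 F q) 1 D) :
    Cfsg.Geo.IsMaximalIn (Cfsg.GU 4 F q ⊓ Cfsg.Geo.specialLinear (Fin 4) F)
      (Cfsg.Geo.decompositionStabilizer D ⊓ (Cfsg.GU 4 F q ⊓ Cfsg.Geo.specialLinear (Fin 4) F)) := by
  classical
  obtain ⟨σ, hσ, hc⟩ := exists_frob hF
  have h := stdHerm_isHermitian hc 4
  have hN := stdHerm_sepRight (σ := σ) 4
  have hfr : finrank F (Fin 4 → F) = 4 := Module.finrank_fin_fun F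
  have hd := udecomp_of hσ hc hD
  obtain ⟨e, he, heD⟩ := exists_line_basis hd h rfl
  refine gu_isMaximalIn_special hσ _ (Perms D) (mem_stab_iff_perms D)
    (exists_not_perms hd h hN (by omega) one_pos (by norm_num)) fun M hle hM g hg hgP => ?_
  have S : FSetting (stdHerm σ 4) e M :=
    ⟨h, hN, he, le_rfl, hle, fun g hgd hgm => hM g hgd ((mono_iff hd rfl heD g).1 hgm)⟩
  have hgm : ¬ Mono e g := fun hgm => hgP ((mono_iff hd rfl heD g).1 hgm)
  by_cases hb : BigFixed σ
  · refine sIsom_le_frame_four S ?_ hb hg hgm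
    have h3 : q = (fixS σ).card := Nat.pow_left_injective two_ne_zero (hF.symm.trans (card_fix_sq hc))
    obtain ⟨t, ht, ht0, ht1⟩ := hb
    have h4 : 3 ≤ (fixS σ).card := by
      refine le_trans (Finset.card_eq_three.2 ⟨0, 1, t, zero_ne_one, Ne.symm ht0, Ne.symm ht1, rfl⟩).ge
        (Finset.card_le_card ?_)
      simp [Finset.insert_subset_iff, ht]
    omega
  · exact sIsom_le_frame_two S hb hg hgm

end CfsgLib.Classical.GeoFour.SU
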