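import Cfsg.Agent.Lib.Classical.RootPair
import Cfsg.Agent.Lib.Classical.UFrameMax.Main

/-!
# Stabilisers of pairs of complementary totally isotropic planes in four-dimensional unitary spaces

An element moving a vector of `U` to a mixed vector `a` gives a totally isotropic plane `⟨a, b⟩` with the group of
"off-diagonal" root elements on it.  A stabiliser element of that plane moving the pair of lines gives a
transvection, and one transvection gives all.
-/

set_option autoImplicit false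
set_option linter.unusedSectionVars false

open Module
open CfsgLib.Classical CfsgLib.Classical.UFrameMax

namespace CfsgLib.Classical.GeoFour.SU

variable {F : Type*} [Field F] {V : Type*} [AddCommGroup V] [Module F V] {σ : F →+* F}
  {B : V →ₛₗ[σ] V →ₗ[F] F}

/-- In `M`: the transvection at `v` with parameter `c`. -/
def Has (M : Subgroup (isomGroup B)) (v : V) (c : F) : Prop := ∀ g, IsUTv g v c → g ∈ M

theorem Has.map {M : Subgroup (isomGroup B)} {v : V} {c : F} (h : Has M v c) {k : isomGroup B} (hk : k ∈ M) :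
    Has M (k.1 v) c := fun g hg => by
  have h1 := hg.conj k⁻¹
  rw [inv_inv, show (k⁻¹ : isomGroup B).1 (k.1 v) = v from k.1.symm_apply_apply v] at h1
  simpa [mul_assoc] using M.mul_mem (M.mul_mem hk (h _ h1)) (M.inv_mem hk)

variable [Finite F] [FiniteDimensional F V]

/-- An overgroup of the stabiliser of a pair of complementary totally isotropic planes. -/
structure ISetting (U W : Submodule F V) (M : Subgroup (isomGroup B)) : Prop where
  herm : IsHermitian B
  eps : IsEpsForm B (-1 : F)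
  pair : IsoPair B U W
  dim : finrank F U = 2
  many : ∀ T : Finset F, T.card ≤ 3 → ∃ r : F, σ r = r ∧ r ∉ T
  mem : ∀ g, idet B g = 1 → ((U.map (g.1 : V →ₗ[F] V) = U ∧ W.map (g.1 : V →ₗ[F] V) = W) ∨
    (U.map (g.1 : V →ₗ[F] V) = W ∧ W.map (g.1 : V →ₗ[F] V) = U)) → g ∈ M

namespace ISetting

variable {U W : Submodule F V} {M : Subgroup (isomGroup B)} (S : ISetting U W M)
include S

theorem symm : ISetting W U M :=
  ⟨S.herm, S.eps, S.pair.symm, S.pair.dim ▸ S.dim, S.many, fun g hg hp => S.mem g hg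
    (hp.imp (fun h => ⟨h.2, h.1⟩) fun h => ⟨h.2, h.1⟩)⟩

theorem sig_ne {x : F} (hx : x ≠ 0) : σ x ≠ 0 := fun e => hx (by rw [← S.herm.conj.invol x, e, map_zero])

theorem shear_mem {d y : V} (hd : d ∈ U) (hy : y ∈ W) (hdy : B d y = 0) :
    ∃ k ∈ M, ∀ v, k.1 v = v + B d v • y - B y v • d := by
  obtain ⟨g, hg⟩ := S.eps.exists_rt (S.pair.left d hd d hd) hdy (s := (0 : F)) (by simp [S.pair.right y hy y hy])
  refine ⟨g, S.mem g (hg.det_eq_one (S.pair.right y hy y hy) (S.eps.orth_symm' hdy))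
    (Or.inl (S.pair.rt_stab S.eps hd hy hg)), fun v => ?_⟩
  rw [hg.2.2.2]
  module

theorem move_indep {x x' : V} (hx : x ∈ U) (hx' : x' ∈ U) (h : x ∉ F ∙ (x' - x)) :
    ∃ k ∈ M, (∀ w ∈ W, k.1 w ∈ W) ∧ k.1 x = x' := by
  obtain ⟨y, hy, hy0, hy1⟩ := S.pair.exists_partner S.eps ((Submodule.span_singleton_le_iff_mem _ _).2
    (U.sub_mem hx' hx)) hx h (-1)
  have hdy : B (x' - x) y = 0 := S.eps.orth_symm' (hy0 _ (Submodule.mem_span_singleton_self _))
  obtain ⟨k, hk, hkf⟩ := S.shear_mem (U.sub_mem hx' hx) hy hdy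
  refine ⟨k, hk, fun w hw => ?_, ?_⟩
  · rw [hkf, S.pair.right y hy w hw, zero_smul, sub_zero]
    exact W.add_mem hw (W.smul_mem _ hy)
  · rw [hkf, S.pair.left _ (U.sub_mem hx' hx) x hx, hy1]
    module

/-- The stabiliser is transitive on the nonzero vectors of `U`. -/
theorem move {x x' : V} (hx : x ∈ U) (hx' : x' ∈ U) (hx0 : x ≠ 0) (hx0' : x' ≠ 0) :
    ∃ k ∈ M, (∀ w ∈ W, k.1 w ∈ W) ∧ k.1 x = x' := by
  have one : ∀ {x x' : V}, x ≠ 0 → x' ∈ U → x' ∉ F ∙ x → x ∉ F ∙ (x' - x) := fun {x x'} hx0 _ hne hm => by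
    obtain ⟨t, ht⟩ := Submodule.mem_span_singleton.1 hm
    have ht0 : t ≠ 0 := fun e => hx0 (by rw [← ht, e, zero_smul])
    refine hne (Submodule.mem_span_singleton.2 ⟨t⁻¹ + 1, ?_⟩)
    have e' : t⁻¹ • x = x' - x := by
      conv_lhs => rw [← ht]
      rw [smul_smul, inv_mul_cancel₀ ht0, one_smul]
    rw [add_smul, one_smul, e']
    abel
  by_cases h : x' ∈ F ∙ x
  swap
  · exact S.move_indep hx hx' (one hx0 hx' h)
  obtain ⟨z, hz, hzx⟩ : ∃ z ∈ U, z ∉ F ∙ x := by
    by_contra! hall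
    have := Submodule.finrank_mono (show U ≤ F ∙ x from hall)
    rw [finrank_span_singleton hx0, S.dim] at this
    omega
  have hz0 : z ≠ 0 := fun e => hzx (e ▸ zero_mem _)
  have hzx' : x' ∉ F ∙ z := fun hm => by
    obtain ⟨s, hs⟩ := Submodule.mem_span_singleton.1 h
    obtain ⟨t, ht⟩ := Submodule.mem_span_singleton.1 hm
    have ht0 : t ≠ 0 := fun e => hx0' (by rw [← ht, e, zero_smul])
    exact hzx (Submodule.mem_span_singleton.2 ⟨t⁻¹ * s, by rw [mul_smul, hs, ← ht, inv_smul_smul₀ ht0]⟩)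
  obtain ⟨k, hk, hkW, e1⟩ := S.move_indep hx hz (one hx0 hz hzx)
  obtain ⟨k', hk', hkW', e2⟩ := S.move_indep hz hx' (one hz0 hx' hzx')
  exact ⟨k' * k, M.mul_mem hk' hk, fun w hw => hkW' _ (hkW w hw), by change k'.1 (k.1 x) = x'; rw [e1, e2]⟩

theorem has_smul {v : V} {c : F} (h : Has M v c) {l : F} (hl : l ≠ 0) : Has M (l • v) (c / (l * σ l)) :=
  fun g hg => h g (by
    have := hg.smul S.herm.conj.invol (inv_ne_zero hl)
    rw [smul_smul, inv_mul_cancel₀ hl, one_smul] at this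
    have hσl := S.sig_ne hl
    convert this using 1
    rw [map_inv₀]
    field_simp)

/-- Conjugating one transvection by another. -/
theorem has_step {p q : V} {c c' : F} (hp : Has M p c) (hpp : B p p = 0) (hc : c + σ c = 0) (hq : Has M q c') :
    Has M (q + (c * B p q) • p) c' := by
  obtain ⟨g, hg⟩ := S.herm.exists_uTv S.eps.sep hpp hc
  have := hq.map (hp g hg)
  rwa [hg.2.2] at this

/-- One transvection with centre in `U` gives all centres in `U`. -/
theorem axes_left {u : V} {c : F} (hu : u ∈ U) (hu0 : u ≠ 0) (hc0 : c ≠ 0) (hc : c + σ c = 0) (h : Has M u c)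
    {x : V} (hx : x ∈ U) : IsTAxis M x := by
  by_cases hx0 : x = 0
  · rw [hx0]; exact S.herm.isTAxis_zero M
  intro g c' hg
  by_cases hc'0 : c' = 0
  · rw [show g = 1 from Subtype.ext (LinearEquiv.ext fun v => by rw [hg.2.2, hc'0]; simp)]
    exact M.one_mem
  have hfix : σ (c / c') = c / c' := by
    rw [map_div₀, eq_neg_of_add_eq_zero_right hc, eq_neg_of_add_eq_zero_right hg.2.1, neg_div_neg_eq]
  obtain ⟨l, hl⟩ := S.herm.conj.exists_norm_eq hfix
  have hl0 : l ≠ 0 := fun e => div_ne_zero hc0 hc'0 (by rw [← hl, e, zero_mul])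
  obtain ⟨k, hk, -, hkx⟩ := S.move hu (U.smul_mem l⁻¹ hx) hu0 (smul_ne_zero (inv_ne_zero hl0) hx0)
  have h1 := S.has_smul (h.map hk) hl0
  rw [hkx, smul_smul, mul_inv_cancel₀ hl0, one_smul, hl, div_div_cancel₀ hc0] at h1
  exact h1 g hg

/-- Transvections at the vectors with non-orthogonal components. -/
theorem has_trans {u w u' w' : V} {c l : F} (hu : u ∈ U) (hw : w ∈ W) (hu' : u' ∈ U) (hw' : w' ∈ W)
    (hβ : B u w ≠ 0) (hl : l ≠ 0) (he : B u' w' = l * σ l * B u w) (h : Has M (u + w) c) :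
    Has M (u' + w') (c / (l * σ l)) := by
  have hσl := S.sig_ne hl
  have hu0 : u ≠ 0 := fun e => hβ (by simp [e])
  have hu0' : u' ≠ 0 := fun e => mul_ne_zero (mul_ne_zero hl hσl) hβ (by rw [← he, e]; simp)
  set x := l⁻¹ • u' with hx
  set z := l⁻¹ • w' with hz
  obtain ⟨k, hk, hkW, hku⟩ := S.move hu (U.smul_mem l⁻¹ hu') hu0 (smul_ne_zero (inv_ne_zero hl) hu0')
  rw [← hx] at hku
  set w₁ := k.1 w with hw₁
  have hw₁W : w₁ ∈ W := hkW w hw
  have hβ₁ : B x w₁ = B u w := by rw [← hku, hw₁, isomGroup_apply]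
  have hβ₂ : B x z = B u w := by
    rw [hx, hz, LinearMap.map_smulₛₗ₂, map_smul, he, map_inv₀, smul_eq_mul, smul_eq_mul]
    field_simp
  have hxy : B x (z - w₁) = 0 := by rw [map_sub, hβ₁, hβ₂, sub_self]
  set s := σ ((B u w)⁻¹) with hs
  obtain ⟨k', hk', hkf⟩ := S.shear_mem (d := s • x) (U.smul_mem _ (U.smul_mem _ hu')) (W.sub_mem (W.smul_mem _ hw') hw₁W)
    (by rw [LinearMap.map_smulₛₗ₂, hxy, smul_zero])
  have hkx : k'.1 x = x := by
    rw [hkf, S.eps.orth_symm' hxy, LinearMap.map_smulₛₗ₂, S.pair.left _ (U.smul_mem _ hu') _ (U.smul_mem _ hu')]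
    simp
  have hkw : k'.1 w₁ = z := by
    rw [hkf, LinearMap.map_smulₛₗ₂, hβ₁, S.pair.right _ (W.sub_mem (W.smul_mem _ hw') hw₁W) _ hw₁W, hs,
      S.herm.conj.invol, smul_eq_mul, inv_mul_cancel₀ hβ]
    module
  have h1 := S.has_smul (h.map (M.mul_mem hk' hk)) hl
  change Has M (l • k'.1 (k.1 (u + w))) (c / (l * σ l)) at h1
  rw [map_add k.1, hku, ← hw₁, map_add k'.1, hkx, hkw, ← smul_add, smul_smul, mul_inv_cancel₀ hl, one_smul] at h1
  exact h1

/-- From a transvection at a vector with non-orthogonal components. -/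
theorem axis_of_nonorth {u w : V} {c : F} (hu : u ∈ U) (hw : w ∈ W) (hc0 : c ≠ 0) (hc : c + σ c = 0)
    (hβ : B u w ≠ 0) (hpp : B (u + w) (u + w) = 0) (hγ : c * B u w ≠ -1) (h : Has M (u + w) c) :
    ∃ x ∈ U, x ≠ 0 ∧ ∃ c' : F, c' ≠ 0 ∧ c' + σ c' = 0 ∧ Has M x c' := by
  set β := B u w with hβd
  have hσc : σ c = -c := eq_neg_of_add_eq_zero_right hc
  have hwu : B w u = σ β := (S.herm.symm u w).symm
  have hσβ : σ β = -β := by
    rw [map_add, map_add, LinearMap.add_apply, LinearMap.add_apply, S.pair.left u hu u hu,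
      S.pair.right w hw w hw, ← hβd, hwu] at hpp
    linear_combination hpp
  set η := c⁻¹ + β with hη
  have hη0 : η ≠ 0 := fun e => hγ (by rw [hη] at e; field_simp at e; linear_combination e)
  obtain ⟨u₁, hu₁, -, hu₁w⟩ := S.pair.symm.exists_partner S.eps (S := ⊥) bot_le hw
    (by simpa using fun e => hβ (by rw [hβd, e]; simp)) (σ η)
  have hη' : σ η = -η := by rw [hη, map_add, map_inv₀, hσc, hσβ, inv_neg, neg_add]
  obtain ⟨l, hl⟩ := S.herm.conj.exists_norm_eq (a := η / β) (by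
    rw [map_div₀, hη', hσβ, neg_div_neg_eq])
  have hl0 : l ≠ 0 := fun e => div_ne_zero hη0 hβ (by rw [← hl, e, zero_mul])
  have h2 := S.has_trans hu hw hu₁ (W.neg_mem hw) hβ hl0 (by
    rw [map_neg, hu₁w, hη', neg_neg, hl, ← hβd, div_mul_cancel₀ _ hβ]) h
  have h3 := S.has_step h hpp hc h2
  have hB : B (u + w) (u₁ + -w) = c⁻¹ := by
    rw [map_add B, LinearMap.add_apply, map_add, map_add, map_neg, map_neg, S.pair.left u hu u₁ hu₁,
      S.pair.right w hw w hw, ← hβd, ← S.herm.symm u₁ w, hu₁w, S.herm.conj.invol, hη]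
    ring
  rw [hB, mul_inv_cancel₀ hc0, one_smul, show u₁ + -w + (u + w) = u₁ + u by abel] at h3
  refine ⟨u₁ + u, U.add_mem hu₁ hu, fun e => ?_, _, div_ne_zero hc0 (by rw [hl]; exact div_ne_zero hη0 hβ), ?_, h3⟩
  · have e1 := congrArg (fun y => B w y) e
    simp only [map_add, map_zero, ← S.herm.symm u₁ w, hu₁w, S.herm.conj.invol, hwu, hσβ, hη, map_neg] at e1
    exact inv_ne_zero hc0 (by linear_combination e1)
  · rw [map_div₀, S.herm.conj.norm_fixed, hσc, neg_div, add_neg_cancel]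

/-- From a transvection at any vector. -/
theorem axis_of_has {p : V} {c : F} (hp0 : p ≠ 0) (hpp : B p p = 0) (hc0 : c ≠ 0) (hc : c + σ c = 0)
    (h : Has M p c) :
    (∃ x ∈ U, x ≠ 0 ∧ ∃ c' : F, c' ≠ 0 ∧ c' + σ c' = 0 ∧ Has M x c') ∨
      (∃ x ∈ W, x ≠ 0 ∧ ∃ c' : F, c' ≠ 0 ∧ c' + σ c' = 0 ∧ Has M x c') := by
  classical
  obtain ⟨u, hu, w, hw, rfl⟩ := S.pair.decomp p
  by_cases hu0 : u = 0
  · subst hu0; rw [zero_add] at hp0 h; exact Or.inr ⟨w, hw, hp0, c, hc0, hc, h⟩
  by_cases hw0 : w = 0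
  · subst hw0; rw [add_zero] at hp0 h; exact Or.inl ⟨u, hu, hp0, c, hc0, hc, h⟩
  have hσc : σ c = -c := eq_neg_of_add_eq_zero_right hc
  have hsplit : ∀ {u w : V}, u ∈ U → w ∈ W → B (u + w) (u + w) = B u w + σ (B u w) := fun {u w} hu hw => by
    rw [S.herm.add_self, S.pair.left u hu u hu, S.pair.right w hw w hw]; ring
  have hnonorth : ∀ {u w : V} {c : F}, u ∈ U → w ∈ W → c ≠ 0 → c + σ c = 0 → B u w ≠ 0 →
      B (u + w) (u + w) = 0 → Has M (u + w) c →
      (∃ x ∈ U, x ≠ 0 ∧ ∃ c' : F, c' ≠ 0 ∧ c' + σ c' = 0 ∧ Has M x c') := by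
    intro u w c hu hw hc0 hc hβ hpp h
    by_cases hγ : c * B u w = -1
    swap
    · exact S.axis_of_nonorth hu hw hc0 hc hβ hpp hγ h
    have hσβ : σ (B u w) = -B u w := eq_neg_of_add_eq_zero_right (by rw [← hsplit hu hw]; exact hpp)
    by_cases h2F : (2 : F) = 0
    · obtain ⟨r, hr, hr'⟩ := S.many {0, 1} (le_trans Finset.card_le_two (by norm_num))
      simp only [Finset.mem_insert, Finset.mem_singleton, not_or] at hr'
      obtain ⟨θ, hθ⟩ := S.herm.conj.exists_trace_eq hr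
      obtain ⟨x₀, hx₀, hux⟩ : ∃ x₀ ∈ U, x₀ ∉ F ∙ u := by
        by_contra! hall
        have := Submodule.finrank_mono (show U ≤ F ∙ u from hall)
        rw [finrank_span_singleton (fun e => hβ (by simp [e])), S.dim] at this
        omega
      have hwu : B w u = -B u w := by rw [← S.herm.symm u w, hσβ]
      set x := x₀ + (B w x₀ / B u w) • u with hxdef
      have hx : x ∈ U := U.add_mem hx₀ (U.smul_mem _ hu)
      have hwx : B w x = 0 := by
        rw [hxdef, map_add, map_smul, hwu, smul_eq_mul, mul_neg, div_mul_cancel₀ _ hβ, add_neg_cancel]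
      have hxw : B x w = 0 := S.eps.orth_symm' hwx
      have hxu : x ∉ F ∙ u := fun hm => hux (by
        simpa [hxdef] using (F ∙ u).sub_mem hm (Submodule.smul_mem _ (B w x₀ / B u w)
          (Submodule.mem_span_singleton_self u)))
      obtain ⟨z, hz, hz0, hz1⟩ := S.pair.exists_partner S.eps ((Submodule.span_singleton_le_iff_mem _ _).2 hu) hx hxu
        (σ ((1 + θ) * B u w))
      have hzu : B z u = 0 := hz0 u (Submodule.mem_span_singleton_self u)
      have huz : B u z = 0 := S.eps.orth_symm' hzu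
      have hxz : B x z = (1 + θ) * B u w := by rw [← S.herm.symm z x, hz1, S.herm.conj.invol]
      have he : B (u + x) (θ • w + z) = (1 : F) * σ 1 * B u w := by
        rw [map_one, map_add B, LinearMap.add_apply, map_add, map_add, map_smul, map_smul, hxw, huz, hxz, smul_eq_mul,
          smul_eq_mul]
        linear_combination θ * B u w * h2F
      have h2 := S.has_trans hu hw (U.add_mem hu hx) (W.add_mem (W.smul_mem θ hw) hz) hβ one_ne_zero he h
      rw [map_one, one_mul, div_one] at h2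
      have h3 := S.has_step h hpp hc h2
      have hB : c * B (u + w) (u + x + (θ • w + z)) = 1 + θ := by
        simp only [map_add, map_smul, LinearMap.add_apply, smul_eq_mul, S.pair.left u hu u hu, S.pair.left u hu x hx,
          S.pair.right w hw w hw, S.pair.right w hw z hz, huz, hwx, hwu]
        linear_combination (θ - 1) * hγ + (-θ) * h2F
      rw [hB] at h3
      have e : u + x + (θ • w + z) + (1 + θ) • (u + w) = (θ • u + x) + (w + z) := by
        match_scalars
        · linear_combination h2F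
        · ring
        · linear_combination θ * h2F
        · ring
      rw [e] at h3
      have hB2 : B (θ • u + x) (w + z) = (1 + r) * B u w := by
        rw [map_add B, LinearMap.add_apply, map_add, map_add, LinearMap.map_smulₛₗ₂, LinearMap.map_smulₛₗ₂, huz, hxw,
          hxz, smul_eq_mul, smul_eq_mul, ← hθ]
        ring
      have hr1 : 1 + r ≠ 0 := fun e' => hr'.2 (by linear_combination e' - h2F)
      refine S.axis_of_nonorth (U.add_mem (U.smul_mem _ hu) hx) (W.add_mem hw hz) hc0 hc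
        (by rw [hB2]; exact mul_ne_zero hr1 hβ) (by
          rw [hsplit (U.add_mem (U.smul_mem _ hu) hx) (W.add_mem hw hz), hB2, map_mul, map_add, map_one, hr, hσβ]
          ring) (fun e' => hr'.1 ?_) h3
      rw [hB2] at e'
      linear_combination (1 + r) * hγ - e'
    obtain ⟨r, hr, hr'⟩ := S.many {0, 1, 2} Finset.card_le_three
    simp only [Finset.mem_insert, Finset.mem_singleton, not_or] at hr'
    obtain ⟨l, hl⟩ := S.herm.conj.exists_norm_eq hr
    have hl0 : l ≠ 0 := fun e => hr'.1 (by rw [← hl, e, zero_mul])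
    have h2 := S.has_trans hu hw hu (W.smul_mem r hw) hβ hl0 (by rw [map_smul, hl, smul_eq_mul]) h
    have h3 := S.has_step h hpp hc h2
    have hB : c * B (u + w) (u + r • w) = 1 - r := by
      rw [map_add B, LinearMap.add_apply, map_add, map_add, map_smul, map_smul, S.pair.left u hu u hu,
        S.pair.right w hw w hw, ← S.herm.symm u w, hσβ, smul_eq_mul, smul_eq_mul]
      linear_combination (r - 1) * hγ
    rw [hB, hl, show u + r • w + (1 - r) • (u + w) = (2 - r) • u + w by module] at h3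
    have hc' : c / r + σ (c / r) = 0 := by rw [map_div₀, hr, ← add_div, hc, zero_div]
    have hB2 : B ((2 - r) • u) w = (2 - r) * B u w := by
      rw [LinearMap.map_smulₛₗ₂, map_sub, map_ofNat, hr, smul_eq_mul]
    refine S.axis_of_nonorth (U.smul_mem _ hu) hw (div_ne_zero hc0 hr'.1) hc' (by
        rw [hB2]; exact mul_ne_zero (sub_ne_zero.2 (Ne.symm hr'.2.2)) hβ) (by
        rw [hsplit (U.smul_mem _ hu) hw, hB2, map_mul, map_sub, map_ofNat, hr, hσβ]; ring) ?_ h3
    rw [hB2]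
    intro e
    have hr0 := hr'.1
    field_simp at e
    have h5 : (2 : F) * (r - 1) = 0 := by linear_combination e - (2 - r) * hγ
    exact hr'.2.1 (sub_eq_zero.1 ((mul_eq_zero.1 h5).resolve_left h2F))
  by_cases hβ : B u w = 0
  swap
  · exact Or.inl (hnonorth hu hw hc0 hc hβ hpp h)
  -- orthogonal components
  obtain ⟨r, hr, hr'⟩ := S.many {0, 1, -1} Finset.card_le_three
  simp only [Finset.mem_insert, Finset.mem_singleton, not_or] at hr'
  have hr0 := hr'.1
  obtain ⟨d, hd, -, hdw'⟩ := S.pair.symm.exists_partner S.eps (S := ⊥) bot_le hw (by simpa using hw0) 1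
  obtain ⟨T, hTd, hTw, hTfix, hTdet⟩ := S.herm.exists_torus S.eps.sep (S.pair.left d hd d hd)
    (S.pair.right w hw w hw) hdw' hr0
  rw [hr] at hTw hTdet
  have hTdet' : idet B T = 1 := by rw [hTdet, div_self hr0]
  have hwd : B w d = 1 := by rw [← S.herm.symm d w, hdw', map_one]
  have hTU : U.map (T.1 : V →ₗ[F] V) = U := by
    refine Submodule.eq_of_le_of_finrank_eq ?_ (LinearEquiv.finrank_map_eq T.1 _)
    rintro _ ⟨x, hx, rfl⟩
    rw [LinearEquiv.coe_coe]
    have e := hTfix (x - B w x • d) (by rw [map_sub, map_smul, S.pair.left d hd x hx, S.pair.left d hd d hd]; simp)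
      (by rw [map_sub, map_smul, hwd]; simp)
    rw [map_sub, map_smul, hTd, sub_eq_iff_eq_add] at e
    rw [e]
    exact U.add_mem (U.sub_mem hx (U.smul_mem _ hd)) (U.smul_mem _ (U.smul_mem _ hd))
  have hTW : W.map (T.1 : V →ₗ[F] V) = W := by
    refine Submodule.eq_of_le_of_finrank_eq ?_ (LinearEquiv.finrank_map_eq T.1 _)
    rintro _ ⟨x, hx, rfl⟩
    rw [LinearEquiv.coe_coe]
    have e := hTfix (x - B d x • w) (by rw [map_sub, map_smul, hdw']; simp)
      (by rw [map_sub, map_smul, S.pair.right w hw x hx, S.pair.right w hw w hw]; simp)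
    rw [map_sub, map_smul, hTw, sub_eq_iff_eq_add] at e
    rw [e]
    exact W.add_mem (W.sub_mem hx (W.smul_mem _ hw)) (W.smul_mem _ (W.smul_mem _ hw))
  have hdu : u ∉ F ∙ d := fun hm => by
    obtain ⟨t, ht⟩ := Submodule.mem_span_singleton.1 hm
    rw [← ht, LinearMap.map_smulₛₗ₂, hdw', smul_eq_mul, mul_one] at hβ
    exact hu0 (by rw [← ht, ← S.herm.conj.invol t, hβ, map_zero, zero_smul])
  obtain ⟨y, hy, hyd, hyu⟩ := S.pair.exists_partner S.eps ((Submodule.span_singleton_le_iff_mem _ _).2 hd) hu hdu (-1)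
  have hyd' := hyd d (Submodule.mem_span_singleton_self d)
  have hdy : B d y = 0 := S.eps.orth_symm' hyd'
  obtain ⟨k, hk, hkf⟩ := S.shear_mem hd hy hdy
  have hku : k.1 u = u + d := by rw [hkf, S.pair.left d hd u hu, hyu]; module
  have hkw : k.1 w = w + y := by rw [hkf, hdw', S.pair.right y hy w hw]; module
  have hTu : T.1 u = u := hTfix u (S.pair.left d hd u hu) (S.eps.orth_symm' hβ)
  have h2 := (h.map (S.mem T hTdet' (Or.inl ⟨hTU, hTW⟩))).map hk
  rw [map_add T.1, hTu, hTw, map_add k.1, map_smul, hku, hkw] at h2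
  have h3 := S.has_step h hpp hc h2
  set δ := c * B (u + w) (u + d + r⁻¹ • (w + y)) with hδ
  have huy : B u y = -1 := by rw [← S.herm.symm y u, hyu, map_neg, map_one]
  have hwu : B w u = 0 := S.eps.orth_symm' hβ
  have hδv : δ = c * (1 - r⁻¹) := by
    rw [hδ]
    simp only [map_add, map_smul, LinearMap.add_apply, smul_eq_mul, S.pair.left u hu u hu, S.pair.left u hu d hd,
      S.pair.right w hw w hw, S.pair.right w hw y hy, hβ, huy, hwu, hwd]
    ring
  rw [show u + d + r⁻¹ • (w + y) + δ • (u + w) = ((1 + δ) • u + d) + ((r⁻¹ + δ) • w + r⁻¹ • y) by module] at h3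
  have hσr : σ r⁻¹ = r⁻¹ := by rw [map_inv₀, hr]
  have hσδ : σ δ = -δ := by rw [hδv, map_mul, map_sub, map_one, hσr, hσc, neg_mul]
  have hU' : (1 + δ) • u + d ∈ U := U.add_mem (U.smul_mem _ hu) hd
  have hW' : (r⁻¹ + δ) • w + r⁻¹ • y ∈ W := W.add_mem (W.smul_mem _ hw) (W.smul_mem _ hy)
  have hB : B ((1 + δ) • u + d) ((r⁻¹ + δ) • w + r⁻¹ • y) = δ * (1 + r⁻¹) := by
    simp only [map_add, map_smul, LinearMap.add_apply, LinearMap.map_smulₛₗ₂, smul_eq_mul, hβ, huy, hdw', hdy,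
      map_one, hσδ]
    ring
  refine Or.inl (hnonorth hU' hW' hc0 hc ?_ ?_ h3)
  · rw [hB, hδv]
    refine mul_ne_zero (mul_ne_zero hc0 fun e => hr'.2.1 ?_) fun e => hr'.2.2 ?_
    · field_simp at e; linear_combination e
    · field_simp at e; linear_combination e
  · rw [hsplit hU' hW', hB, map_mul, map_add, map_one, hσr, hσδ]; ring

/-- A stabiliser element of the plane `⟨a, b⟩` moving `a` off both lines. -/
theorem exists_mover {aU aW b : V} (haU : aU ∈ U) (haW : aW ∈ W) (ha0 : aU ≠ 0) (ha0' : aW ≠ 0)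
    (haa : B (aU + aW) (aU + aW) = 0) (hab : B (aU + aW) b = 0) (hbb : B b b = 0)
    (hb : b ∉ F ∙ (aU + aW)) :
    ∃ k ∈ M, ∃ α β γ ε : F, k.1 (aU + aW) = α • (aU + aW) + β • b ∧ k.1 b = γ • (aU + aW) + ε • b ∧
      α ≠ 0 ∧ β ≠ 0 := by
  classical
  set a := aU + aW with ha
  set P := Submodule.span F {a, b} with hP
  have hba : B b a = 0 := S.eps.orth_symm' hab
  have hTI : ∀ x ∈ P, ∀ z ∈ P, B x z = 0 := fun x hx z hz => by
    obtain ⟨s, t, rfl⟩ := Submodule.mem_span_pair.1 hx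
    obtain ⟨s', t', rfl⟩ := Submodule.mem_span_pair.1 hz
    simp [LinearMap.map_smulₛₗ₂, haa, hab, hba, hbb]
  have haP : a ∈ P := Submodule.subset_span (by simp)
  have hbP : b ∈ P := Submodule.subset_span (by simp)
  have hdisj : ∀ {x : V}, x ∈ U → x ∈ W → x = 0 := fun {x} h1 h2 =>
    (Submodule.mem_bot F).1 (S.pair.inf ▸ ⟨h1, h2⟩)
  suffices H : ∃ k ∈ M, (∀ v ∈ P, k.1 v ∈ P) ∧ ∀ α β : F, k.1 a = α • a + β • b → α ≠ 0 ∧ β ≠ 0 by
    obtain ⟨k, hk, hkP, hne⟩ := H
    obtain ⟨α, β, h1⟩ := Submodule.mem_span_pair.1 (hkP a haP)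
    obtain ⟨γ, ε, h2⟩ := Submodule.mem_span_pair.1 (hkP b hbP)
    exact ⟨k, hk, α, β, γ, ε, h1.symm, h2.symm, hne α β h1.symm⟩
  have huniq : ∀ {α β α' β' : F}, α • a + β • b = α' • a + β' • b → α = α' ∧ β = β' := fun {α β α' β'} e => by
    by_cases hβ : β = β'
    · subst hβ
      refine ⟨?_, rfl⟩
      have h1 : (α - α') • a = 0 := by
        rw [sub_smul, sub_eq_zero]; exact add_right_cancel e
      rcases smul_eq_zero.1 h1 with h | h
      · exact sub_eq_zero.1 h
      · exact absurd (hdisj haU ((eq_neg_of_add_eq_zero_left h : aU = -aW) ▸ W.neg_mem haW)) ha0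
    · refine absurd (Submodule.mem_span_singleton.2 ⟨(α' - α) / (β - β'), ?_⟩) hb
      have h1 : (β - β') • b = (α' - α) • a := by
        rw [sub_smul, sub_smul, sub_eq_sub_iff_add_eq_add, add_comm, e, add_comm]
      rw [div_eq_inv_mul, mul_smul, ← h1, inv_smul_smul₀ (sub_ne_zero.2 hβ)]
  -- a pure vector of the plane outside the line of `aU`
  have side : ∀ {A C : Submodule F V}, ISetting A C M → ∀ {xA xC : V}, xA ∈ A → xC ∈ C → xA + xC = a →
      ∀ {u₀ : V}, u₀ ∈ P → u₀ ∈ A → u₀ ≠ 0 → xA ∉ F ∙ u₀ →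
      ∃ k ∈ M, (∀ v ∈ P, k.1 v ∈ P) ∧ ∀ α β : F, k.1 a = α • a + β • b → α ≠ 0 ∧ β ≠ 0 := by
    intro A C T xA xC hxA hxC hxa u₀ hu₀P hu₀ hu₀0 hne
    obtain ⟨p, q, hpq⟩ := Submodule.mem_span_pair.1 hu₀P
    have hq : q ≠ 0 := fun e => by
      rw [e, zero_smul, add_zero] at hpq
      have hp0 : p ≠ 0 := fun e' => hu₀0 (by rw [← hpq, e', zero_smul])
      have haA : a ∈ A := (Submodule.smul_mem_iff _ hp0).1 (hpq ▸ hu₀)
      have hC0 : xC = 0 := (Submodule.mem_bot F).1 (T.pair.inf ▸ ⟨by simpa [← hxa] using A.sub_mem haA hxA, hxC⟩)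
      exact hne (Submodule.mem_span_singleton.2 ⟨p⁻¹, by
        rw [← hpq, inv_smul_smul₀ hp0, ← hxa, hC0, add_zero]⟩)
    obtain ⟨y, hy, hy0, hy1⟩ := T.pair.exists_partner T.eps ((Submodule.span_singleton_le_iff_mem _ _).2 hu₀) hxA hne 1
    have hy0' := hy0 u₀ (Submodule.mem_span_singleton_self _)
    obtain ⟨f, hf0, hfp⟩ : ∃ f : F, f ≠ 0 ∧ 1 + f * p ≠ 0 := by
      by_cases hp : 1 + p = 0
      · obtain ⟨f, -, hf⟩ := T.many {0, 1} (le_trans Finset.card_le_two (by norm_num))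
        simp only [Finset.mem_insert, Finset.mem_singleton, not_or] at hf
        exact ⟨f, hf.1, fun e => hf.2 (by linear_combination -e + f * hp)⟩
      · exact ⟨1, one_ne_zero, by simpa using hp⟩
    obtain ⟨k, hk, hkf⟩ := T.shear_mem hu₀ (C.smul_mem (σ (-f)) hy) (by
      rw [map_smul, T.eps.orth_symm' hy0', smul_zero])
    have hkP : ∀ v ∈ P, k.1 v = v + (f * B y v) • u₀ := fun v hv => by
      rw [hkf, hTI u₀ hu₀P v hv, LinearMap.map_smulₛₗ₂, T.herm.conj.invol, smul_eq_mul]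
      module
    refine ⟨k, hk, fun v hv => by rw [hkP v hv]; exact P.add_mem hv (P.smul_mem _ hu₀P), fun α β hαβ => ?_⟩
    have hya : B y a = 1 := by rw [← hxa, map_add, hy1, T.pair.right y hy xC hxC, add_zero]
    rw [hkP a haP, hya, mul_one, ← hpq] at hαβ
    obtain ⟨h1, h2⟩ := huniq (α := 1 + f * p) (β := f * q) (α' := α) (β' := β) (by rw [← hαβ]; module)
    exact ⟨h1 ▸ hfp, h2 ▸ mul_ne_zero hf0 hq⟩
  -- both components in the plane
  have split : aU ∈ P → aW ∈ P → ∃ k ∈ M, (∀ v ∈ P, k.1 v ∈ P) ∧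
      ∀ α β : F, k.1 a = α • a + β • b → α ≠ 0 ∧ β ≠ 0 := by
    intro hUP hWP
    obtain ⟨p, q, hpq⟩ := Submodule.mem_span_pair.1 hUP
    have hq : q ≠ 0 := fun e => by
      rw [e, zero_smul, add_zero] at hpq
      have hp0 : p ≠ 0 := fun e' => ha0 (by rw [← hpq, e', zero_smul])
      have : a ∈ U := (Submodule.smul_mem_iff _ hp0).1 (hpq ▸ haU)
      exact ha0' (hdisj (by simpa [ha] using U.sub_mem this haU) haW)
    obtain ⟨r, hr, hr'⟩ := S.many {0, 1, 1 - p⁻¹} Finset.card_le_three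
    simp only [Finset.mem_insert, Finset.mem_singleton, not_or] at hr'
    obtain ⟨s, hs, -, hs'⟩ := S.pair.exists_partner S.eps (S := ⊥) bot_le haU (by simpa using ha0) 1
    have hs1 : B aU s = 1 := by rw [← S.herm.symm s aU, hs', map_one]
    obtain ⟨T, hTa, hTs, hTfix, hTdet⟩ := S.herm.exists_torus S.eps.sep (S.pair.left aU haU aU haU)
      (S.pair.right s hs s hs) hs1 hr'.1
    rw [hr, div_self hr'.1] at hTdet
    have hUW : B aU aW = 0 := hTI aU hUP aW hWP
    have hTW' : T.1 aW = aW := hTfix aW hUW (S.pair.right s hs aW haW)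
    have hTU : U.map (T.1 : V →ₗ[F] V) = U := by
      refine Submodule.eq_of_le_of_finrank_eq ?_ (LinearEquiv.finrank_map_eq T.1 _)
      rintro _ ⟨x, hx, rfl⟩
      rw [LinearEquiv.coe_coe]
      have e := hTfix (x - B s x • aU) (by
          rw [map_sub, map_smul, S.pair.left aU haU x hx, S.pair.left aU haU aU haU]; simp)
        (by rw [map_sub, map_smul, hs']; simp)
      rw [map_sub, map_smul, hTa, sub_eq_iff_eq_add] at e
      rw [e]
      exact U.add_mem (U.sub_mem hx (U.smul_mem _ haU)) (U.smul_mem _ (U.smul_mem _ haU))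
    have hTWm : W.map (T.1 : V →ₗ[F] V) = W := by
      refine Submodule.eq_of_le_of_finrank_eq ?_ (LinearEquiv.finrank_map_eq T.1 _)
      rintro _ ⟨x, hx, rfl⟩
      rw [LinearEquiv.coe_coe]
      have e := hTfix (x - B aU x • s) (by rw [map_sub, map_smul, hs1]; simp)
        (by rw [map_sub, map_smul, S.pair.right s hs x hx, S.pair.right s hs s hs]; simp)
      rw [map_sub, map_smul, hTs, sub_eq_iff_eq_add] at e
      rw [e]
      exact W.add_mem (W.sub_mem hx (W.smul_mem _ hs)) (W.smul_mem _ (W.smul_mem _ hs))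
    have hTa' : T.1 a = a + (r - 1) • aU := by rw [ha, map_add, hTa, hTW']; module
    refine ⟨T, S.mem T hTdet (Or.inl ⟨hTU, hTWm⟩), fun v hv => ?_, fun α β hαβ => ?_⟩
    · have e := hTfix (v - B s v • aU) (by
          rw [map_sub, map_smul, hTI aU hUP v hv, S.pair.left aU haU aU haU]; simp)
        (by rw [map_sub, map_smul, hs']; simp)
      rw [map_sub, map_smul, hTa, sub_eq_iff_eq_add] at e
      rw [e]
      exact P.add_mem (P.sub_mem hv (P.smul_mem _ hUP)) (P.smul_mem _ (P.smul_mem _ hUP))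
    · rw [hTa', ← hpq] at hαβ
      obtain ⟨h1, h2⟩ := huniq (α := 1 + (r - 1) * p) (β := (r - 1) * q) (α' := α) (β' := β)
        (by rw [← hαβ]; module)
      refine ⟨h1 ▸ fun e => hr'.2.2 ?_, h2 ▸ mul_ne_zero (sub_ne_zero.2 hr'.2.1) hq⟩
      by_cases hp : p = 0
      · rw [hp, mul_zero, add_zero] at e; exact absurd e one_ne_zero
      · field_simp; linear_combination e
  by_cases hU0 : ∃ x ∈ P, x ∈ U ∧ x ≠ 0
  · obtain ⟨x, hxP, hxU, hx0⟩ := hU0
    by_cases hne : aU ∈ F ∙ x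
    · have hUP : aU ∈ P := (Submodule.span_singleton_le_iff_mem _ _).2 hxP hne
      exact split hUP (by simpa [ha] using P.sub_mem haP hUP)
    · exact side S haU haW rfl hxP hxU hx0 hne
  by_cases hW0 : ∃ x ∈ P, x ∈ W ∧ x ≠ 0
  · obtain ⟨x, hxP, hxW, hx0⟩ := hW0
    by_cases hne : aW ∈ F ∙ x
    · have hWP : aW ∈ P := (Submodule.span_singleton_le_iff_mem _ _).2 hxP hne
      exact split (by simpa [ha] using P.sub_mem haP hWP) hWP
    · exact side S.symm haW haU (by rw [ha, add_comm]) hxP hxW hx0 hne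
  push Not at hU0 hW0
  -- the plane is the graph of a non-degenerate skew form
  let πU : V →ₗ[F] V := U.subtype ∘ₗ U.projectionOnto W ⟨disjoint_iff.2 S.pair.inf, codisjoint_iff.2 S.pair.sup⟩
  have hπ : ∀ {u w : V}, u ∈ U → w ∈ W → πU (u + w) = u := fun {u w} hu hw => by
    simp [πU, Submodule.projectionOnto_apply_left _ ⟨u, hu⟩, Submodule.projectionOnto_apply_of_mem_right _ hw]
  have hπmem : ∀ v, πU v ∈ U ∧ v - πU v ∈ W := fun v => by
    obtain ⟨u, hu, w, hw, rfl⟩ := S.pair.decomp v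
    rw [hπ hu hw]
    exact ⟨hu, by simpa using hw⟩
  let H : V → V → F := fun x z => B (πU x) z
  have hHW : ∀ x z, H x z = B (πU x) (z - πU z) := fun x z => by
    simp only [H, map_sub, S.pair.left _ (hπmem x).1 _ (hπmem z).1, sub_zero]
  have hskew : ∀ x ∈ P, ∀ z ∈ P, σ (H x z) = -H z x := fun x hx z hz => by
    have e := hTI z hz x hx
    rw [← sub_add_cancel z (πU z), map_add B, LinearMap.add_apply] at e
    have e2 : B (z - πU z) x = B (z - πU z) (πU x) := by
      conv_lhs => rw [← sub_add_cancel x (πU x), map_add, S.pair.right _ (hπmem z).2 _ (hπmem x).2, zero_add]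
    rw [e2, ← S.herm.symm (πU x) (z - πU z), ← hHW] at e
    exact eq_neg_of_add_eq_zero_left e
  -- the form is non-degenerate
  have hnd : ∀ x ∈ P, (∀ z ∈ P, H x z = 0) → x = 0 := by
    intro x hx hall
    have hW1 : (P.map (LinearMap.id - πU : V →ₗ[F] V)) = W := by
      refine Submodule.eq_of_le_of_finrank_le (by rintro _ ⟨z, -, rfl⟩; exact (hπmem z).2) ?_
      have hinj : Function.Injective ((LinearMap.id - πU : V →ₗ[F] V) ∘ₗ P.subtype) :=
        (injective_iff_map_eq_zero _).2 fun z hz => Subtype.ext (hU0 z z.2 (by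
          rw [show (z : V) = πU z from sub_eq_zero.1 hz]; exact (hπmem _).1))
      rw [← LinearMap.range_domRestrict]
      change _ ≤ finrank F (LinearMap.range ((LinearMap.id - πU : V →ₗ[F] V) ∘ₗ P.subtype))
      rw [LinearMap.finrank_range_of_inj hinj, ← S.pair.dim, S.dim]
      have hli : LinearIndependent F ![a, b] := by
        rw [LinearIndependent.pair_iff]
        intro s t hst
        exact huniq (α' := 0) (β' := 0) (by rw [hst]; simp)
      have := finrank_span_eq_card hli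
      rw [show Set.range ![a, b] = {a, b} by simp [Matrix.range_cons, Matrix.range_empty, Set.pair_comm]] at this
      rw [hP]; simpa using this.ge
    have h0 : πU x = 0 := S.eps.sep _ fun z => S.eps.orth_symm' (by
      obtain ⟨u, hu, w, hw, rfl⟩ := S.pair.decomp z
      obtain ⟨z', hz', rfl⟩ : w ∈ P.map (LinearMap.id - πU : V →ₗ[F] V) := hW1.symm ▸ hw
      rw [map_add, S.pair.left _ (hπmem x).1 u hu, zero_add]
      have := hall z' hz'
      rwa [hHW] at this)
    exact hW0 x hx (by simpa [h0] using (hπmem x).2)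
  obtain ⟨v, hv, hav⟩ : ∃ v ∈ P, H a v ≠ 0 := by
    by_contra! hall
    refine ha0 ?_
    have h0 : a = 0 := hnd a haP hall
    exact hdisj haU ((eq_neg_of_add_eq_zero_left h0) ▸ W.neg_mem haW)
  obtain ⟨p₀, hp₀, hiso, hpa⟩ : ∃ p₀ ∈ P, H p₀ p₀ = 0 ∧ H p₀ a ≠ 0 := by
    have Hl : ∀ {x z : V} (s : F) (y : V), H (x + s • z) y = H x y + σ s * H z y := fun s y => by simp [H]
    have Hr : ∀ {x z : V} (s : F) (y : V), H y (x + s • z) = H y x + s * H y z := fun s y => by simp [H]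
    obtain ⟨c, hc0, hc⟩ := S.herm.conj.exists_trace_zero
    have hσc : σ c = -c := eq_neg_of_add_eq_zero_right hc
    by_cases haa' : H a a = 0
    · have hva : H v a ≠ 0 := fun e => hav (by
        have h4 := hskew a haP v hv
        rw [e, neg_zero] at h4
        rw [← S.herm.conj.invol (H a v), h4, map_zero])
      obtain ⟨Y, hY⟩ := S.herm.conj.exists_trace_eq (a := -H v v / c)
        (by rw [map_div₀, map_neg, hskew v hv v hv, neg_neg, hσc, div_neg, neg_div])
      set κ := c * Y / H v a with hκ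
      refine ⟨v + κ • a, P.add_mem hv (P.smul_mem _ haP), ?_, ?_⟩
      · have hκ1 : κ * H v a = c * Y := div_mul_cancel₀ _ hva
        have hκ2 : σ κ * H a v = c * σ Y := by
          have e := congrArg σ hκ1
          rw [map_mul, map_mul, hskew v hv a haP, hσc] at e
          linear_combination -e
        rw [Hl, Hr, Hr, haa']
        have : c * (Y + σ Y) = -H v v := by rw [hY, mul_div_cancel₀ _ hc0]
        linear_combination hκ1 + hκ2 + this
      · rw [Hl, haa', mul_zero, add_zero]; exact hva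
    · set t := -(H a b / H a a) with ht
      set n := b + t • a with hn
      have hnP : n ∈ P := P.add_mem hbP (P.smul_mem _ haP)
      have han : H a n = 0 := by rw [hn, Hr, ht, neg_mul, div_mul_cancel₀ _ haa', add_neg_cancel]
      have hna : H n a = 0 := by
        have h4 := hskew a haP n hnP
        rw [han, map_zero, eq_comm, neg_eq_zero] at h4
        exact h4
      have hn0 : n ≠ 0 := fun e => hb (Submodule.mem_span_singleton.2 ⟨-t, by
        rw [neg_smul]; exact (eq_neg_of_add_eq_zero_left e).symm⟩)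
      have hnn : H n n ≠ 0 := fun e => hn0 (hnd n hnP fun z hz => by
        obtain ⟨s, s', rfl⟩ := Submodule.mem_span_pair.1 hz
        rw [show s • a + s' • b = (s - s' * t) • a + s' • n by rw [hn]; module]
        simp only [H, map_add, map_smul, smul_eq_mul] at hna e ⊢
        rw [hna, e]; ring)
      obtain ⟨κ, hκ⟩ := S.herm.conj.exists_norm_eq (a := -(H a a / H n n)) (by
        rw [map_neg, map_div₀, hskew a haP a haP, hskew n hnP n hnP, neg_div_neg_eq])
      refine ⟨a + κ • n, P.add_mem haP (P.smul_mem _ hnP), ?_, ?_⟩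
      · have e : κ * σ κ * H n n = -H a a := by rw [hκ, neg_mul, div_mul_cancel₀ _ hnn]
        simp only [Hl, Hr, han, hna]
        linear_combination e
      · rw [Hl, hna, mul_zero, add_zero]; exact haa'
  set u₀ := πU p₀ with hu₀
  set w₀ := p₀ - u₀ with hw₀
  have hu₀U : u₀ ∈ U := (hπmem p₀).1
  have hw₀W : w₀ ∈ W := (hπmem p₀).2
  have huw : B u₀ w₀ = 0 := by rw [← hHW]; exact hiso
  obtain ⟨p, q, hpq⟩ := Submodule.mem_span_pair.1 hp₀
  set h₀ := H p₀ a with hh₀
  have hq : q ≠ 0 := fun e => by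
    rw [e, zero_smul, add_zero] at hpq
    have e1 : H p₀ p₀ = σ p * (p * H a a) := by rw [← hpq]; simp [H]; ring
    have e2 : h₀ = σ p * H a a := by rw [hh₀, ← hpq]; simp [H]
    rw [hiso] at e1
    rcases mul_eq_zero.1 e1.symm with h | h
    · exact hpa (by rw [e2, h, zero_mul])
    rcases mul_eq_zero.1 h with h | h
    · exact hpa (by rw [e2, h, map_zero, zero_mul])
    · exact hpa (by rw [e2, h, mul_zero])
  obtain ⟨r, hr, hr'⟩ := S.many {0, -(h₀ * p)⁻¹} (le_trans Finset.card_le_two (by norm_num))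
  simp only [Finset.mem_insert, Finset.mem_singleton, not_or] at hr'
  obtain ⟨k, hk, hkf⟩ := S.shear_mem hu₀U (W.smul_mem r hw₀W) (by rw [map_smul, huw, smul_zero])
  have hkP : ∀ v ∈ P, k.1 v = v + (r * H p₀ v) • p₀ := fun v hv => by
    have e := hTI p₀ hp₀ v hv
    rw [show p₀ = u₀ + w₀ by rw [hw₀]; abel, map_add B, LinearMap.add_apply] at e
    rw [hkf, LinearMap.map_smulₛₗ₂, hr, smul_eq_mul, show B w₀ v = -B u₀ v by linear_combination e]
    change _ = v + (r * B u₀ v) • p₀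
    rw [show p₀ = u₀ + w₀ by rw [hw₀]; abel]
    module
  refine ⟨k, hk, fun v hv => by rw [hkP v hv]; exact P.add_mem hv (P.smul_mem _ hp₀), fun α β hαβ => ?_⟩
  rw [hkP a haP, ← hh₀, ← hpq] at hαβ
  obtain ⟨h1, h2⟩ := huniq (α := 1 + r * h₀ * p) (β := r * h₀ * q) (α' := α) (β' := β) (by rw [← hαβ]; module)
  refine ⟨h1 ▸ fun e => hr'.2 ?_, h2 ▸ mul_ne_zero (mul_ne_zero hr'.1 hpa) hq⟩
  have hp0 : h₀ * p ≠ 0 := fun e' => by rw [mul_assoc, e', mul_zero, add_zero] at e; exact one_ne_zero e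
  rw [← one_div, neg_div', eq_div_iff hp0]
  linear_combination e

/-- A vector of `U` with mixed image gives a transvection. -/
theorem exists_has_of_mixed {g : isomGroup B} (hg : g ∈ M) {d : V} (hd : d ∈ U) (h1 : g.1 d ∉ U) (h2 : g.1 d ∉ W) :
    ∃ p, p ≠ 0 ∧ B p p = 0 ∧ ∃ c : F, c ≠ 0 ∧ c + σ c = 0 ∧ Has M p c := by
  classical
  obtain ⟨aU, haU, aW, haW, ha⟩ := S.pair.decomp (g.1 d)
  have ha0 : aU ≠ 0 := fun e => h2 (by rw [← ha, e, zero_add]; exact haW)
  have ha0' : aW ≠ 0 := fun e => h1 (by rw [← ha, e, add_zero]; exact haU)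
  have hd0 : d ≠ 0 := fun e => h1 (by rw [e, map_zero]; exact U.zero_mem)
  obtain ⟨d', hd', hdd'⟩ : ∃ d' ∈ U, d' ∉ F ∙ d := by
    by_contra! hall
    have := Submodule.finrank_mono (show U ≤ F ∙ d from hall)
    rw [finrank_span_singleton hd0, S.dim] at this
    omega
  obtain ⟨y, hy, hy0, hy1⟩ := S.pair.exists_partner S.eps ((Submodule.span_singleton_le_iff_mem _ _).2 hd) hd' hdd' 1
  have hy00 : y ≠ 0 := fun e => by simp [e] at hy1
  have hdy : B d y = 0 := S.eps.orth_symm' (hy0 d (Submodule.mem_span_singleton_self d))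
  set a := g.1 d with had
  set b := g.1 y with hbd
  have haa : B a a = 0 := by rw [had, isomGroup_apply]; exact S.pair.left d hd d hd
  have hab : B a b = 0 := by rw [had, hbd, isomGroup_apply]; exact hdy
  have hbb : B b b = 0 := by rw [hbd, isomGroup_apply]; exact S.pair.right y hy y hy
  have hba : B b a = 0 := S.eps.orth_symm' hab
  -- the root elements at `(a, l • b)`
  have hroot : ∀ l : F, ∃ r ∈ M, ∀ v, r.1 v = v + (l * B a v) • b - (σ l * B b v) • a := fun l => by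
    obtain ⟨k, hk, hkf⟩ := S.shear_mem hd (W.smul_mem l hy) (by rw [map_smul, hdy, smul_zero])
    refine ⟨g * k * g⁻¹, M.mul_mem (M.mul_mem hg hk) (M.inv_mem hg), fun v => ?_⟩
    obtain ⟨z, rfl⟩ := g.1.surjective v
    change g.1 (k.1 (g.1.symm (g.1 z))) = _
    rw [LinearEquiv.symm_apply_apply, hkf, map_sub, map_add, map_smul, map_smul, map_smul, LinearMap.map_smulₛₗ₂,
      had, hbd, isomGroup_apply, isomGroup_apply, smul_eq_mul]
    module
  have hbne : b ∉ F ∙ (aU + aW) := fun hm => by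
    obtain ⟨t, ht⟩ := Submodule.mem_span_singleton.1 hm
    rw [ha, hbd, ← map_smul] at ht
    exact hy00 ((Submodule.mem_bot F).1 (S.pair.inf ▸ ⟨g.1.injective ht ▸ U.smul_mem t hd, hy⟩))
  obtain ⟨k, hk, α, β, γ, ε, hka, hkb, hα, hβ⟩ := S.exists_mover haU haW ha0 ha0' (ha ▸ haa) (ha ▸ hab) hbb hbne
  rw [ha] at hka hkb
  -- choose the parameter
  have hne : γ ≠ 0 ∨ ε ≠ 0 := by
    by_contra! h0
    rw [h0.1, h0.2, zero_smul, zero_smul, add_zero] at hkb
    exact hy00 (g.1.map_eq_zero_iff.1 (k.1.map_eq_zero_iff.1 hkb))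
  obtain ⟨μ, hμ⟩ := S.herm.conj.exists_not_fixed
  obtain ⟨l, hl⟩ : ∃ l : F, σ α * l * γ - σ (σ α * l * γ) ≠ 0 ∨ γ = 0 ∧ σ β * l * ε - σ (σ β * l * ε) ≠ 0 := by
    have hσα := S.sig_ne hα
    have hσβ := S.sig_ne hβ
    by_cases hγ : γ = 0
    · have hε := hne.resolve_left (not_not.2 hγ)
      refine ⟨μ / (σ β * ε), Or.inr ⟨hγ, ?_⟩⟩
      rw [show σ β * (μ / (σ β * ε)) * ε = μ by field_simp]
      exact sub_ne_zero.2 (Ne.symm hμ)
    · refine ⟨μ / (σ α * γ), Or.inl ?_⟩
      rw [show σ α * (μ / (σ α * γ)) * γ = μ by field_simp]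
      exact sub_ne_zero.2 (Ne.symm hμ)
  set c₁ := σ α * l * γ - σ (σ α * l * γ) with hc₁
  set c₂ := σ β * l * ε - σ (σ β * l * ε) with hc₂
  set z := σ α * l * ε - σ l * σ γ * β with hz
  obtain ⟨r₁, hr₁, hr₁f⟩ := hroot l
  have hconj : ∀ v, (k * r₁ * k⁻¹).1 v = v + (c₁ * B a v - σ z * B b v) • a + (z * B a v + c₂ * B b v) • b := by
    intro v
    obtain ⟨w, rfl⟩ := k.1.surjective v
    change k.1 (r₁.1 (k.1.symm (k.1 w))) = _
    rw [LinearEquiv.symm_apply_apply, hr₁f, map_sub, map_add, map_smul, map_smul, ← isomGroup_apply k a w,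
      ← isomGroup_apply k b w, hka, hkb]
    simp only [map_add, map_sub, map_mul, LinearMap.add_apply, LinearMap.map_smulₛₗ₂, smul_eq_mul, hc₁, hc₂, hz,
      S.herm.conj.invol]
    module
  have hc : ∀ X : F, X - σ X + σ (X - σ X) = 0 := fun X => by rw [map_sub, S.herm.conj.invol]; ring
  have hfin : ∀ (ζ : F) (p : V) (c : F), B p p = 0 → c + σ c = 0 →
      (∀ v, (c₁ * B a v - σ z * B b v - σ ζ * B b v) • a + (z * B a v + c₂ * B b v + ζ * B a v) • b
        = (c * B p v) • p) → Has M p c := by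
    intro ζ p c hpp hcc hform t ht
    obtain ⟨r₂, hr₂, hr₂f⟩ := hroot ζ
    have heq : t = r₂ * (k * r₁ * k⁻¹) := Subtype.ext (LinearEquiv.ext fun v => by
      rw [ht.2.2, ← hform]
      change _ = r₂.1 ((k * r₁ * k⁻¹).1 v)
      rw [hconj, hr₂f]
      simp only [map_add, map_smul, smul_eq_mul, haa, hab, hba, hbb]
      module)
    exact heq ▸ M.mul_mem hr₂ (M.mul_mem (M.mul_mem hk hr₁) (M.inv_mem hk))
  by_cases hc₁0 : c₁ = 0
  · have hc₂0 : c₂ ≠ 0 := by
      rcases hl with h | h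
      · exact absurd hc₁0 h
      · exact h.2
    refine ⟨b, fun e => hy00 (g.1.map_eq_zero_iff.1 e), hbb, c₂, hc₂0, hc _, hfin (-z) b c₂ hbb (hc _) fun v => ?_⟩
    rw [hc₁0, map_neg]
    module
  · have hσ1 : σ c₁ = -c₁ := eq_neg_of_add_eq_zero_right (hc _)
    have hσ2 : σ c₂ = -c₂ := eq_neg_of_add_eq_zero_right (hc _)
    obtain ⟨κ, hκ⟩ := S.herm.conj.exists_norm_eq (a := c₂ / c₁) (by rw [map_div₀, hσ1, hσ2, neg_div_neg_eq])
    set p := a + κ • b with hp
    have hpp : B p p = 0 := by simp [hp, LinearMap.map_smulₛₗ₂, haa, hab, hba, hbb]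
    refine ⟨p, fun e => hbne ?_, hpp, c₁, hc₁0, hc _, hfin (c₁ * κ - z) p c₁ hpp (hc _) fun v => ?_⟩
    · rcases eq_or_ne κ 0 with h | h
      · exfalso
        rw [hp, h, zero_smul, add_zero, had, g.1.map_eq_zero_iff] at e
        exact hd0 e
      · refine Submodule.mem_span_singleton.2 ⟨-κ⁻¹, ?_⟩
        rw [ha, neg_smul, show a = -(κ • b) from eq_neg_of_add_eq_zero_left e, smul_neg, neg_neg,
          inv_smul_smul₀ h]
    · have hκ2 : c₂ = c₁ * (κ * σ κ) := by rw [hκ, mul_div_cancel₀ _ hc₁0]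
      rw [hp, map_add B, LinearMap.add_apply, LinearMap.map_smulₛₗ₂, smul_eq_mul, map_sub σ (c₁ * κ) z, map_mul σ c₁ κ, hσ1, hκ2]
      module

/-- All axes. -/
theorem all_axes {g : isomGroup B} (hg : g ∈ M) (hgP : ¬ ((U.map (g.1 : V →ₗ[F] V) = U ∧
    W.map (g.1 : V →ₗ[F] V) = W) ∨ (U.map (g.1 : V →ₗ[F] V) = W ∧ W.map (g.1 : V →ₗ[F] V) = U))) {v : V}
    (hv : B v v = 0) : IsTAxis M v := by
  classical
  have hk : finrank F W = 2 := S.pair.dim ▸ S.dim
  have pure : ∀ (A : Submodule F V), finrank F A = finrank F U →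
      (∀ d ∈ A, g.1 d ∈ U ∨ g.1 d ∈ W) → A.map (g.1 : V →ₗ[F] V) = U ∨ A.map (g.1 : V →ₗ[F] V) = W := by
    intro A hA hp
    by_cases hc : A.map (g.1 : V →ₗ[F] V) ≤ U
    · exact Or.inl (Submodule.eq_of_le_of_finrank_eq hc (by rw [LinearEquiv.finrank_map_eq, hA]))
    refine Or.inr (Submodule.eq_of_le_of_finrank_eq ?_ (by rw [LinearEquiv.finrank_map_eq, hA, S.pair.dim]))
    obtain ⟨_, ⟨x, hx, rfl⟩, hxU⟩ := SetLike.not_le_iff_exists.1 hc
    rintro _ ⟨y, hy, rfl⟩
    rcases hp y hy with h1 | h1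
    swap
    · exact h1
    have h2 := (hp x hx).resolve_left hxU
    rcases hp (x + y) (A.add_mem hx hy) with h3 | h3
    · exact absurd (by rw [map_add] at h3; simpa using U.sub_mem h3 h1) hxU
    · rw [map_add] at h3; simpa using W.sub_mem h3 h2
  obtain ⟨p, hp0, hpp, c, hc0, hc, hhas⟩ : ∃ p, p ≠ 0 ∧ B p p = 0 ∧ ∃ c : F, c ≠ 0 ∧ c + σ c = 0 ∧ Has M p c := by
    by_contra hnone
    have hA : ∀ d ∈ U, g.1 d ∈ U ∨ g.1 d ∈ W := fun d hd => by
      by_contra hh
      push Not at hh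
      exact hnone (S.exists_has_of_mixed hg hd hh.1 hh.2)
    have hB : ∀ d ∈ W, g.1 d ∈ U ∨ g.1 d ∈ W := fun d hd => by
      by_contra hh
      push Not at hh
      exact hnone (S.symm.exists_has_of_mixed hg hd hh.2 hh.1)
    have hinj : U.map (g.1 : V →ₗ[F] V) ≠ W.map (g.1 : V →ₗ[F] V) := fun e' => by
      have e'' : U = W := Submodule.map_injective_of_injective g.1.injective e'
      have h0 := S.pair.inf
      rw [← e'', inf_idem] at h0
      have := S.dim
      rw [h0, finrank_bot] at this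
      omega
    rcases pure U rfl hA with h1 | h1 <;> rcases pure W S.pair.dim.symm hB with h2 | h2
    · exact hinj (h1.trans h2.symm)
    · exact hgP (Or.inl ⟨h1, h2⟩)
    · exact hgP (Or.inr ⟨h1, h2⟩)
    · exact hinj (h1.trans h2.symm)
  obtain ⟨t, htS, htU, htW⟩ := S.pair.exists_swap S.eps (S := sIsom B) fun g' a c' hg' =>
    MonoidHom.mem_ker.2 (hg'.det_eq_one (by simp) (by simp))
  have htM : t ∈ M := S.mem t (MonoidHom.mem_ker.1 htS) (Or.inr ⟨htU, htW⟩)
  obtain ⟨hU, hW⟩ : (∀ x ∈ U, IsTAxis M x) ∧ ∀ x ∈ W, IsTAxis M x := by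
    rcases S.axis_of_has hp0 hpp hc0 hc hhas with ⟨x, hx, hx0, c', hc'0, hc', h'⟩ | ⟨x, hx, hx0, c', hc'0, hc', h'⟩
    · refine ⟨fun z hz => S.axes_left hx hx0 hc'0 hc' h' hz, fun z hz => ?_⟩
      obtain ⟨u, hu, rfl⟩ : z ∈ U.map (t.1 : V →ₗ[F] V) := htU.symm ▸ hz
      exact (S.axes_left hx hx0 hc'0 hc' h' hu).map htM
    · refine ⟨fun z hz => ?_, fun z hz => S.symm.axes_left hx hx0 hc'0 hc' h' hz⟩
      obtain ⟨w, hw, rfl⟩ : z ∈ W.map (t.1 : V →ₗ[F] V) := htW.symm ▸ hz
      exact (S.symm.axes_left hx hx0 hc'0 hc' h' hw).map htM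
  obtain ⟨u, hu, w, hw, rfl⟩ := S.pair.decomp v
  rw [S.herm.add_self, S.pair.left u hu u hu, S.pair.right w hw w hw, zero_add, zero_add] at hv
  have hsig : ∀ {r : F}, r + σ r = 0 → r⁻¹ + σ r⁻¹ = 0 := fun {r} hr => by
    rw [map_inv₀, eq_neg_of_add_eq_zero_right hr, inv_neg, add_neg_cancel]
  by_cases hw0 : w = 0
  · subst hw0; rw [add_zero]; exact hU u hu
  by_cases hβ : B u w = 0
  · obtain ⟨δ, hδ0, hδ⟩ := S.herm.conj.exists_trace_zero
    obtain ⟨u', hu', -, hu'w⟩ := S.pair.symm.exists_partner S.eps (S := ⊥) bot_le hw (by simpa using hw0) δ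
    have e1 := S.herm.axis_step S.eps.sep (hU u' hu') (S.pair.left u' hu' u' hu') (hW w hw) (c := δ⁻¹) (hsig hδ)
    rw [hu'w, inv_mul_cancel₀ hδ0, one_smul] at e1
    have hB : B (u - u') (w + u') = -δ := by
      simp only [map_sub, map_add, LinearMap.sub_apply, hβ, hu'w, S.pair.left u hu u' hu',
        S.pair.left u' hu' u' hu']
      ring
    have e2 := S.herm.axis_step S.eps.sep (hU _ (U.sub_mem hu hu'))
      (S.pair.left _ (U.sub_mem hu hu') _ (U.sub_mem hu hu')) e1 (c := (-δ)⁻¹)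
      (hsig (by rw [map_neg, ← neg_add, hδ, neg_zero]))
    rwa [hB, inv_mul_cancel₀ (neg_ne_zero.2 hδ0), one_smul, show w + u' + (u - u') = u + w by abel] at e2
  · have e1 := S.herm.axis_step S.eps.sep (hU u hu) (S.pair.left u hu u hu) (hW w hw) (c := (B u w)⁻¹) (hsig hv)
    rwa [inv_mul_cancel₀ hβ, one_smul, add_comm w u] at e1

end ISetting

end CfsgLib.Classical.GeoFour.SU

namespace CfsgLib.Classical.GeoFour.SU

/-- Stabilisers of pairs of totally isotropic planes are maximal in `SU 4 q` for `q ≥ 4`. -/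
theorem isopair_maximal {F : Type*} [Field F] [Fintype F] {q : ℕ} (hF : Fintype.card F = q ^ 2) (hq : 4 ≤ q)
    {D : Fin 2 → Submodule F (Fin 4 → F)} (hD : Cfsg.Geo.IsMDecomposition 2 D)
    (hts : ∀ i, Cfsg.Geo.IsTotallySingularFor (Cfsg.hermForm 4 F q) (D i)) :
    Cfsg.Geo.IsMaximalIn (Cfsg.GU 4 F q ⊓ Cfsg.Geo.specialLinear (Fin 4) F)
      (Cfsg.Geo.decompositionStabilizer D ⊓ (Cfsg.GU 4 F q ⊓ Cfsg.Geo.specialLinear (Fin 4) F)) := by
  classical
  obtain ⟨σ, hσ, hc⟩ := exists_frob hF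
  have hh := stdHerm_isHermitian hc 4
  have hN := stdHerm_sepRight (σ := σ) 4
  set B := stdHerm σ 4 with hBdef
  have h : IsEpsForm B (-1 : F) := by
    refine ⟨hc.invol, by ring, by simp, fun x y => by rw [hh.symm x y]; ring, hN, ?_, ?_⟩
    · obtain ⟨μ, hμ⟩ := hc.exists_trace_eq (a := (1 : F)) (map_one σ)
      exact ⟨μ, by rw [hμ]; exact one_ne_zero⟩
    · obtain ⟨c, hc0, hc'⟩ := hc.exists_trace_zero
      exact ⟨c, hc0, by linear_combination hc'⟩
  have hts' : ∀ i, ∀ x ∈ D i, ∀ y ∈ D i, B x y = 0 := fun i x hx y hy => by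
    rw [hBdef, ← hermForm_eq_stdHerm hσ]; exact hts i y hy x hx
  have hP : IsoPair B (D 0) (D 1) :=
    ⟨hts' 0, hts' 1,
      eq_top_iff.2 (hD.iSup_eq_top ▸ iSup_le (Fin.forall_fin_two.2 ⟨le_sup_left, le_sup_right⟩)),
      disjoint_iff.1 (hD.indep.pairwiseDisjoint (by decide : (0 : Fin 2) ≠ 1)),
      (hD.finrank_eq 0).trans (hD.finrank_eq 1).symm⟩
  have hS : ∀ (g : isomGroup B) a b c, IsRt (-1 : F) g a b c → B b b = 0 → g ∈ sIsom B :=
    fun g a b c hg hb => MonoidHom.mem_ker.2 (hg.det_eq_one hb (h.orth_symm' hg.2.1))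
  refine gu_isMaximalIn hσ _ (fun g : isomGroup B =>
      (((D 0).map g.1.toLinearMap = D 0 ∧ (D 1).map g.1.toLinearMap = D 1) ∨
        ((D 0).map g.1.toLinearMap = D 1 ∧ (D 1).map g.1.toLinearMap = D 0))) (fun g => ?_) ?_ ?_
  · have e : Matrix.toLin' (linToGL g.1 : Matrix (Fin 4) (Fin 4) F) = g.1.toLinearMap :=
      LinearMap.ext fun x => by rw [Matrix.toLin'_apply]; exact linToGL_mulVec g.1 x
    change (∃ τ : Equiv.Perm (Fin 2), ∀ i,
      (D i).map (Matrix.toLin' (linToGL g.1 : Matrix (Fin 4) (Fin 4) F)) = D (τ i)) ↔ _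
    rw [e]
    exact perm_two_iff D g.1.toLinearMap hP.inf
  · obtain ⟨g, hg, hgP⟩ := h.exists_not_perm hP (by rw [hD.finrank_eq]) hS
    exact ⟨g, MonoidHom.mem_ker.1 hg, hgP⟩
  · intro M hM g hg hgP
    have hcard : (fixS σ).card = q :=
      (Nat.pow_left_injective two_ne_zero (hF.symm.trans (card_fix_sq hc))).symm
    have S : ISetting (D 0) (D 1) M := ⟨hh, h, hP, hD.finrank_eq 0, fun T hT => by
      obtain ⟨r, hr, hr'⟩ := Finset.exists_mem_notMem_of_card_lt_card (s := T) (t := fixS σ) (by omega)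
      exact ⟨r, mem_fixS.1 hr, hr'⟩, hM⟩
    exact hh.sIsom_le_of_axes hN (by rw [Module.finrank_fin_fun]) fun v hv => S.all_axes hg hgP hv

end CfsgLib.Classical.GeoFour.SU
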