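import Cfsg.Agent.Lib.Classical.UFrameMax.Main

/-!
# Stabilisers of decompositions into two non-degenerate planes in four-dimensional unitary spaces

The case of two members of dimension two is not covered by `BSetting.move`: there need not be a unit vector
orthogonal to two given isotropic components.  Here the pairs of isotropic components whose ratio is a square
are reached by tori, those with anisotropic components by the general argument, and the remaining ones by one
more transvection.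
-/

set_option autoImplicit false
set_option linter.unusedSectionVars false

open Module
open CfsgLib.Classical CfsgLib.Classical.UFrameMax

namespace CfsgLib.Classical.GeoFour.SU

variable {F : Type*} [Field F] {σ : F →+* F}

/-- A trace condition solved by a square. -/
theorem exists_sq_trace [Finite F] (hc' : IsConjugation σ) {c r : F} (hc0 : c ≠ 0) (hc : c + σ c = 0)
    (hr : σ r = r) : ∃ z : F, c * (1 + z * z) + σ (c * (1 + z * z)) = r := by
  have hσc : σ c = -c := eq_neg_of_add_eq_zero_right hc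
  by_cases h2 : (2 : F) = 0
  · obtain ⟨μ, hμ⟩ := hc'.exists_trace_eq hr
    have hch : ringChar F = 2 := by
      haveI : CharP F 2 := CharTwo.of_one_ne_zero_of_two_eq_zero one_ne_zero h2
      exact ringChar.eq F 2
    obtain ⟨z, hz⟩ := FiniteField.isSquare_of_char_two hch (μ / c - 1)
    refine ⟨z, ?_⟩
    rw [← hz, add_sub_cancel, mul_div_cancel₀ _ hc0]
    exact hμ
  · have h4 : (4 : F) ≠ 0 := by
      rw [show (4 : F) = 2 * 2 by norm_num]; exact mul_ne_zero h2 h2
    refine ⟨r / (4 * (c * c)) + c, ?_⟩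
    simp only [map_mul, map_add, map_one, map_div₀, map_ofNat, hr, hσc]
    field_simp
    ring

/-- Some square is not fixed. -/
theorem exists_sq_not_fixed (hc' : IsConjugation σ) : ∃ z : F, z ≠ 0 ∧ σ (z * z) ≠ z * z := by
  by_cases h2 : (2 : F) = 0
  · obtain ⟨a, ha⟩ := hc'.exists_not_fixed
    refine ⟨a, fun e => ha (by simp [e]), fun e => ha ?_⟩
    rw [map_mul] at e
    have : (σ a - a) * (σ a - a) = 0 := by linear_combination e + (a * a - σ a * a) * h2
    exact sub_eq_zero.1 (mul_self_eq_zero.1 this)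
  · obtain ⟨c, hc0, hc⟩ := hc'.exists_trace_zero
    have hσc : σ c = -c := eq_neg_of_add_eq_zero_right hc
    have h4 : (2 : F) * 2 * c ≠ 0 := mul_ne_zero (mul_ne_zero h2 h2) hc0
    refine ⟨1 + c, fun e => ?_, fun e => h4 ?_⟩
    · have e1 := congrArg σ e
      rw [map_add, map_one, hσc, map_zero] at e1
      exact h2 (by linear_combination e + e1)
    · rw [map_mul, map_add, map_one, hσc] at e
      linear_combination -e

variable {V : Type*} [AddCommGroup V] [Module F V] {B : V →ₛₗ[σ] V →ₗ[F] F} [Finite F] [FiniteDimensional F V]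
  {t : ℕ} {D : Fin t → Submodule F V} {M : Subgroup (isomGroup B)} (S : BSetting B D 2 M)
include S

/-- The torus of a member. -/
theorem exists_local_torus {i : Fin t} {r s : V} (hr : r ∈ D i) (hs : s ∈ D i) (hrr : B r r = 0)
    (hss : B s s = 0) (hrs : B r s = 1) {l : F} (hl : l ≠ 0) :
    ∃ g : isomGroup B, Local (D i) g ∧ idet B g = l / σ l ∧ g.1 r = l • r := by
  obtain ⟨g, hgr, hgs, hgf, hgd⟩ := S.herm.exists_torus S.sep hrr hss hrs hl
  refine ⟨g, ⟨fun x hx => ?_, fun x hx => hgf x (mem_perp.1 hx r hr) (mem_perp.1 hx s hs)⟩, hgd, hgr⟩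
  rw [← S.herm.span_pair_eq (S.dec.dim i) hr hs hrr hrs, Submodule.mem_span_pair] at hx ⊢
  obtain ⟨x₁, x₂, rfl⟩ := hx
  exact ⟨x₁ * l, x₂ * (σ l)⁻¹, by rw [map_add, map_smul, map_smul, hgr, hgs, smul_smul, smul_smul]⟩

/-- A special move of an isotropic vector to a multiple of its partner. -/
theorem exists_local_swap {i : Fin t} {a a' : V} (ha : a ∈ D i) (ha' : a' ∈ D i) (haa : B a a = 0)
    (haa' : B a' a' = 0) (h1 : B a a' = 1) {c : F} (hc0 : c ≠ 0) (hc : c + σ c = 0) :
    ∃ g : isomGroup B, Local (D i) g ∧ idet B g = 1 ∧ g.1 a = c • a' := by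
  have h1' : B a' a = 1 := by rw [← S.herm.symm a a', h1, map_one]
  have hσc : σ c = -c := eq_neg_of_add_eq_zero_right hc
  obtain ⟨f, hf⟩ := S.herm.exists_uTv S.sep haa' hc
  obtain ⟨f', hf'⟩ := S.herm.exists_uTv S.sep haa (c := -c⁻¹) (by
    rw [map_neg, map_inv₀, hσc, inv_neg, neg_neg, neg_add_cancel])
  refine ⟨f' * f, (local_uTv S.herm hf' ha).mul (local_uTv S.herm hf ha'),
    by rw [map_mul, S.herm.idet_uTv hf', S.herm.idet_uTv hf, one_mul], ?_⟩
  change f'.1 (f.1 a) = _
  rw [hf.2.2, h1', mul_one, hf'.2.2, map_add, haa, map_smul, h1, zero_add, smul_eq_mul, mul_one, neg_mul,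
    inv_mul_cancel₀ hc0]
  module

/-- Isotropic pairs of partners with a square ratio. -/
theorem iso_step {i j : Fin t} (hij : i ≠ j) {a b a' b' : V} (ha : a ∈ D i) (hb : b ∈ D j) (ha' : a' ∈ D i)
    (hb' : b' ∈ D j) (haa : B a a = 0) (hbb : B b b = 0) (haa' : B a' a' = 0) (hbb' : B b' b' = 0)
    (h1 : B a a' = 1) (h2 : B b b' = 1) (hax : IsTAxis M (a + b)) {z : F} (hz : z ≠ 0) :
    IsTAxis M (a' + (z * z) • b') := by
  obtain ⟨c, hc0, hc⟩ := S.herm.conj.exists_trace_zero
  obtain ⟨f, hf, hfd, hfa⟩ := exists_local_swap S ha ha' haa haa' h1 hc0 hc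
  obtain ⟨f', hf', hfd', hfb⟩ := exists_local_swap S hb hb' hbb hbb' h2 hc0 hc
  obtain ⟨T, hT, hTd, hTa⟩ := exists_local_torus S ha' ha haa' haa (by rw [← S.herm.symm a a', h1, map_one])
    (inv_ne_zero hz)
  obtain ⟨T', hT', hTd', hTb⟩ := exists_local_torus S hb' hb hbb' hbb (by rw [← S.herm.symm b b', h2, map_one]) hz
  have hσz : σ z ≠ 0 := fun e => hz (by rw [← S.herm.conj.invol z, e, map_zero])
  have hm : T * f * (T' * f') ∈ M := S.mem_of_preserves
    (by simp only [map_mul, hfd, hfd', hTd, hTd', map_inv₀, mul_one]; field_simp)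
    fun l x hx => (hT.mul hf).preserves S.dec l _ ((hT'.mul hf').preserves S.dec l x hx)
  have hperp : ∀ {k l : Fin t} {w : V}, k ≠ l → w ∈ D l → w ∈ perp B (D k) :=
    fun hkl hw => mem_perp.2 fun u hu => S.dec.orth _ _ hkl u hu _ hw
  have hb'' : T'.1 (f'.1 b) ∈ D j := (hT'.mul hf').1 b hb
  have e : (T * f * (T' * f')).1 (a + b) = (z⁻¹ * c) • (a' + (z * z) • b') := by
    change T.1 (f.1 (T'.1 (f'.1 (a + b)))) = _
    rw [map_add f'.1, hf'.2 a (hperp hij.symm ha), map_add T'.1, hT'.2 a (hperp hij.symm ha), map_add f.1,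
      hf.2 _ (hperp hij hb''), map_add T.1, hT.2 _ (hperp hij hb''), hfa, map_smul T.1, hTa, hfb, map_smul T'.1,
      hTb, smul_smul, smul_smul, smul_add, smul_smul]
    congr 2
    · ring
    · field_simp
  have h3 := hax.map hm
  rw [e] at h3
  have h4 := h3.smul S.herm.conj.invol (inv_ne_zero (mul_ne_zero (inv_ne_zero hz) hc0))
  rwa [inv_smul_smul₀ (mul_ne_zero (inv_ne_zero hz) hc0)] at h4

/-- Moving axes with an anisotropic component. -/
theorem move_aniso {i j : Fin t} (hij : i ≠ j) {x x' y y' : V} (hx : x ∈ D i) (hx' : x' ∈ D i) (hy : y ∈ D j)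
    (hy' : y' ∈ D j) (hxx : B x' x' ≠ 0) (hy0 : y ≠ 0) (hy0' : y' ≠ 0) (ex : B x x = B x' x')
    (ey : B y y = B y' y') (hax : IsTAxis M (x + y)) : IsTAxis M (x' + y') := by
  have hx0' : x' ≠ 0 := fun e => hxx (by simp [e])
  have hx0 : x ≠ 0 := fun e => hxx (by rw [← ex]; simp [e])
  obtain ⟨f, hf, hfx⟩ := exists_wmove S.herm (S.dec.nd i) hx hx' hx0 hx0' ex
  obtain ⟨f', hf', hfy⟩ := exists_wmove S.herm (S.dec.nd j) hy hy' hy0 hy0' ey
  obtain ⟨hnd, hrk⟩ := S.herm.finrank_inf_perp (S.herm.nondegOn_span_singleton hxx) (S.dec.nd i)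
    ((Submodule.span_singleton_le_iff_mem _ _).2 hx')
  rw [finrank_span_singleton hx0', S.dec.dim] at hrk
  obtain ⟨z, hzmem, hzz⟩ := S.herm.exists_unit_in hnd (by omega) (map_one σ)
  obtain ⟨hz, hzperp⟩ := Submodule.mem_inf.1 hzmem
  have hzi : B z x' = 0 := S.herm.isRefl _ _ (mem_perp.1 hzperp x' (Submodule.mem_span_singleton_self _))
  have hzj : B z y' = 0 := S.dec.orth i j hij z hz _ hy'
  obtain ⟨r, hr, hrd, hrf⟩ := exists_local_qr S.herm S.sep hz (by rw [hzz]; exact one_ne_zero)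
    (inv_norm S.herm S.sep (f * f'))
  have hm : r * (f * f') ∈ M := S.mem_of_preserves
    (by rw [map_mul, hrd, inv_mul_cancel₀ (idet_ne_zero S.herm S.sep _)])
    fun m w hw => hr.preserves S.dec m _ (hf.preserves S.dec m _ (hf'.preserves S.dec m w hw))
  have hperp : ∀ {k l : Fin t} {w : V}, k ≠ l → w ∈ D l → w ∈ perp B (D k) :=
    fun hkl hw => mem_perp.2 fun u hu => S.dec.orth _ _ hkl u hu _ hw
  have e : (r * (f * f')).1 (x + y) = x' + y' := by
    change r.1 (f.1 (f'.1 (x + y))) = _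
    rw [map_add f'.1, hf'.2 x (hperp hij.symm hx), hfy, map_add f.1, hfx, hf.2 y' (hperp hij hy'), map_add r.1,
      hrf _ hzi, hrf _ hzj]
  rw [← e]
  exact hax.map hm

/-- All axes with anisotropic components. -/
theorem axis_aniso {i j : Fin t} (hij : i ≠ j) {a b : V} (ha : a ∈ D i) (hb : b ∈ D j) (ha0 : a ≠ 0)
    (hb0 : b ≠ 0) (haa : B a a = 0) (hbb : B b b = 0) (hax : IsTAxis M (a + b)) {x y : V} (hx : x ∈ D i)
    (hy : y ∈ D j) (hxx : B x x ≠ 0) (hxy : B (x + y) (x + y) = 0) : IsTAxis M (x + y) := by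
  have hsum : ∀ {x y : V}, x ∈ D i → y ∈ D j → B (x + y) (x + y) = B x x + B y y := fun hx hy => by
    rw [S.herm.add_self, S.dec.orth i j hij _ hx _ hy]; simp
  rw [hsum hx hy] at hxy
  have hyy : B y y ≠ 0 := fun e => hxx (by rw [e, add_zero] at hxy; exact hxy)
  obtain ⟨c, hc0, hc⟩ := S.herm.conj.exists_trace_zero
  obtain ⟨z, hμ⟩ := exists_sq_trace S.herm.conj hc0 hc (S.herm.self_fixed x)
  have hz : z ≠ 0 := fun e => hxx (by rw [← hμ, e]; simpa using hc)
  obtain ⟨a', ha', haa', haa1⟩ := S.herm.exists_partner (S.dec.nd i) ha ha0 haa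
  obtain ⟨b', hb', hbb', hbb1⟩ := S.herm.exists_partner (S.dec.nd j) hb hb0 hbb
  have habb : B (a + b) (a + b) = 0 := by rw [hsum ha hb, haa, hbb, add_zero]
  have hax' := iso_step S hij ha hb ha' hb' haa hbb haa' hbb' haa1 hbb1 hax hz
  have h1 := S.herm.axis_step S.sep hax habb hax' hc
  set ξ := z * z
  set μ := c * (1 + ξ) with hμdef
  have hB : c * B (a + b) (a' + ξ • b') = μ := by
    simp [haa1, hbb1, S.dec.orth i j hij a ha b' hb', S.dec.orth j i hij.symm b hb a' ha', hμdef]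
  rw [hB, show a' + ξ • b' + μ • (a + b) = (a' + μ • a) + (ξ • b' + μ • b) by module] at h1
  have hN1 : B (a' + μ • a) (a' + μ • a) = B x x := by
    rw [S.herm.add_self, haa', S.herm.smul_self, haa, map_smul, smul_eq_mul, ← S.herm.symm a a', haa1, map_one,
      mul_one, hμ]
    simp
  have hN2 : B (ξ • b' + μ • b) (ξ • b' + μ • b) = B y y := by
    obtain ⟨f, hf⟩ := S.herm.exists_uTv S.sep habb hc
    have e : f.1 (a' + ξ • b') = (a' + μ • a) + (ξ • b' + μ • b) := by rw [hf.2.2, hB]; module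
    have h2 := isomGroup_apply f (a' + ξ • b') (a' + ξ • b')
    rw [e, hsum ((D i).add_mem ha' ((D i).smul_mem _ ha))
      ((D j).add_mem ((D j).smul_mem _ hb') ((D j).smul_mem _ hb)), hsum ha' ((D j).smul_mem _ hb'),
      hN1, haa', S.herm.smul_self, hbb', mul_zero, add_zero] at h2
    linear_combination h2 - hxy
  exact move_aniso S hij ((D i).add_mem ha' ((D i).smul_mem _ ha)) hx
    ((D j).add_mem ((D j).smul_mem _ hb') ((D j).smul_mem _ hb)) hy hxx (fun e => hyy (by rw [← hN2, e]; simp))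
    (fun e => hyy (by simp [e])) hN1 hN2 h1

/-- All axes of two members. -/
theorem pair_axes {i j : Fin t} (hij : i ≠ j) {a b : V} (ha : a ∈ D i) (hb : b ∈ D j) (ha0 : a ≠ 0)
    (hb0 : b ≠ 0) (haa : B a a = 0) (hbb : B b b = 0) (hax : IsTAxis M (a + b)) {x y : V} (hx : x ∈ D i)
    (hy : y ∈ D j) (hxy : B (x + y) (x + y) = 0) : IsTAxis M (x + y) := by
  by_cases hx0 : x = 0
  · rw [hx0, zero_add]; exact S.axis_member hy
  by_cases hy0 : y = 0
  · rw [hy0, add_zero]; exact S.axis_member hx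
  by_cases hxx : B x x = 0
  swap
  · exact axis_aniso S hij ha hb ha0 hb0 haa hbb hax hx hy hxx hxy
  have hxy0 : B x y = 0 := S.dec.orth i j hij x hx y hy
  have hyy : B y y = 0 := by
    rw [S.herm.add_self, hxy0, hxx] at hxy
    simpa using hxy
  obtain ⟨u, hu, huu, hau, hxu⟩ := S.herm.exists_common_nonorth (S.dec.nd i) ha hx ha0 hx0 haa hxx
  obtain ⟨w, hw, hww, hbw, hyw⟩ := S.herm.exists_common_nonorth (S.dec.nd j) hb hy hb0 hy0 hbb hyy
  set a' := (B a u)⁻¹ • u with ha'def
  set b' := (B b w)⁻¹ • w with hb'def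
  have ha' : a' ∈ D i := (D i).smul_mem _ hu
  have hb' : b' ∈ D j := (D j).smul_mem _ hw
  have haa' : B a' a' = 0 := by rw [ha'def, S.herm.smul_self, huu, mul_zero]
  have hbb' : B b' b' = 0 := by rw [hb'def, S.herm.smul_self, hww, mul_zero]
  have h1 : B a a' = 1 := by rw [ha'def, map_smul, smul_eq_mul, inv_mul_cancel₀ hau]
  have h2 : B b b' = 1 := by rw [hb'def, map_smul, smul_eq_mul, inv_mul_cancel₀ hbw]
  set α := B a' x with hα
  set β := B b' y with hβ
  have hne : ∀ {p q : V} {k : F}, k ≠ 0 → B q p ≠ 0 → B (k • p) q ≠ 0 := fun {p q k} hk hq => by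
    rw [LinearMap.map_smulₛₗ₂, smul_eq_mul, ← S.herm.symm q p]
    exact mul_ne_zero (fun e => hk (by rw [← S.herm.conj.invol k, e, map_zero]))
      fun e => hq (by rw [← S.herm.conj.invol (B q p), e, map_zero])
  have hα0 : α ≠ 0 := hne (inv_ne_zero hau) hxu
  have hβ0 : β ≠ 0 := hne (inv_ne_zero hbw) hyw
  obtain ⟨z, hz0, hz⟩ : ∃ z : F, z ≠ 0 ∧ σ (σ (z * z) * (β / α)) ≠ σ (z * z) * (β / α) := by
    by_cases hk : σ (β / α) = β / α
    · obtain ⟨z, hz0, hz⟩ := exists_sq_not_fixed S.herm.conj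
      refine ⟨z, hz0, fun e => hz ?_⟩
      rw [map_mul σ, S.herm.conj.invol, hk] at e
      exact (mul_right_cancel₀ (div_ne_zero hβ0 hα0) e).symm
    · exact ⟨1, one_ne_zero, by simpa using hk⟩
  have hax' := iso_step S hij ha hb ha' hb' haa hbb haa' hbb' h1 h2 hax hz0
  set ξ := z * z
  set δ := σ ξ * β with hδ
  set q := a' + ξ • b' with hq
  obtain ⟨c, hc0, hc⟩ := S.herm.conj.exists_trace_zero
  have hσc : σ c = -c := eq_neg_of_add_eq_zero_right hc
  set μ := c * (α + δ) with hμ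
  have hqP : B q (x + y) = α + δ := by
    simp [hq, hα, hβ, hδ, LinearMap.map_smulₛₗ₂, S.dec.orth i j hij a' ha' y hy,
      S.dec.orth j i hij.symm b' hb' x hx]
  have hqq : B q q = 0 := by
    rw [hq, S.herm.add_self, haa', S.herm.smul_self, hbb', map_smul, S.dec.orth i j hij a' ha' b' hb']
    simp
  have hXX : B (x + μ • a') (x + μ • a') = c * (δ * σ α - σ δ * α) := by
    rw [S.herm.add_self, hxx, S.herm.smul_self, haa', map_smul, smul_eq_mul, ← S.herm.symm a' x, ← hα, hμ]
    simp only [map_mul, map_add, hσc, S.herm.conj.invol]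
    ring
  have hXne : B (x + μ • a') (x + μ • a') ≠ 0 := by
    rw [hXX]
    refine mul_ne_zero hc0 (sub_ne_zero.2 fun e => hz ?_)
    have hσα : σ α ≠ 0 := fun e => hα0 (by rw [← S.herm.conj.invol α, e, map_zero])
    simp only [hδ, map_mul, S.herm.conj.invol] at e
    simp only [map_mul, map_div₀, S.herm.conj.invol]
    rw [mul_div_assoc', mul_div_assoc', div_eq_div_iff hσα hα0]
    linear_combination -e
  set v := x + y + μ • q with hv
  have hvv : B v v = 0 := by
    rw [hv, S.herm.add_self, hxy, S.herm.smul_self, hqq, map_smul, smul_eq_mul, ← S.herm.symm q (x + y), hqP,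
      hμ]
    simp only [map_mul, map_add, hσc, S.herm.conj.invol]
    ring
  have hv' : v = (x + μ • a') + (y + (μ * ξ) • b') := by rw [hv, hq]; module
  have hvax : IsTAxis M v := by
    rw [hv'] at hvv ⊢
    exact axis_aniso S hij ha hb ha0 hb0 haa hbb hax ((D i).add_mem hx ((D i).smul_mem _ ha'))
      ((D j).add_mem hy ((D j).smul_mem _ hb')) hXne hvv
  have h3 := S.herm.axis_step S.sep hax' hqq hvax (c := -c) (by rw [map_neg, ← neg_add, hc, neg_zero])
  rwa [hv, map_add, hqP, map_smul, hqq, smul_zero, add_zero, neg_mul, ← hμ, neg_smul, add_neg_cancel_right] at h3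

end CfsgLib.Classical.GeoFour.SU

namespace CfsgLib.Classical.GeoFour.SU

/-- Stabilisers of decompositions into two non-degenerate planes are maximal in `SU 4 q` for `q ≥ 3`. -/
theorem planes_maximal {F : Type*} [Field F] [Fintype F] {q : ℕ} (hF : Fintype.card F = q ^ 2) (hq : 3 ≤ q)
    {D : Fin 2 → Submodule F (Fin 4 → F)}
    (hD : Cfsg.Geo.IsNondegenerateMDecomposition (Cfsg.hermForm 4 F q) 2 D) :
    Cfsg.Geo.IsMaximalIn (Cfsg.GU 4 F q ⊓ Cfsg.Geo.specialLinear (Fin 4) F)
      (Cfsg.Geo.decompositionStabilizer D ⊓ (Cfsg.GU 4 F q ⊓ Cfsg.Geo.specialLinear (Fin 4) F)) := by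
  classical
  obtain ⟨σ, hσ, hc⟩ := exists_frob hF
  have h := stdHerm_isHermitian hc 4
  have hN := stdHerm_sepRight (σ := σ) 4
  have hfr : finrank F (Fin 4 → F) = 4 := Module.finrank_fin_fun F
  have hd := udecomp_of hσ hc hD
  refine gu_isMaximalIn_special hσ _ (Perms D) (mem_stab_iff_perms D)
    (exists_not_perms hd h hN (by omega) (by omega) le_rfl) fun M _ hM g hg hgP => ?_
  have S : BSetting (stdHerm σ 4) D 2 M :=
    ⟨h, hN, hd, le_rfl, Or.inr (bigFixed_of_ne hF hc (by omega)), le_rfl, hM⟩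
  obtain ⟨p, hpp, hp, i, j, hij, hi, hj⟩ := S.exists_mixed hg hgP
  obtain ⟨a, ha, b, hb, ha0, hb0, haa, hbb, hax⟩ := S.exists_pair hpp hp hij hi hj
  refine h.sIsom_le_of_axes hN (by omega) fun v hv => ?_
  have hv' : v = S.dec.comp i v + S.dec.comp j v := by
    conv_lhs => rw [← S.dec.sum_comp v, Fin.sum_univ_two]
    fin_cases i <;> fin_cases j
    · exact absurd rfl hij
    · rfl
    · exact add_comm _ _
    · exact absurd rfl hij
  rw [hv'] at hv ⊢
  exact pair_axes S hij ha hb ha0 hb0 haa hbb hax (S.dec.comp_mem i v) (S.dec.comp_mem j v) hv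

end CfsgLib.Classical.GeoFour.SU
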