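import Cfsg.Agent.Lib.Classical.GeoFour.SU.SubfieldTop
import Cfsg.Agent.Lib.Classical.GeoMaxSmall.SU

/-!
# Subfield groups of odd index are maximal in `SU_n`, `n ≥ 4`
-/

set_option autoImplicit false
set_option linter.unusedSectionVars false
set_option backward.isDefEq.respectTransparency false

open Module Matrix Cfsg

namespace CfsgLib.Classical.GeoFour.SU

namespace SubTop

open SubfieldMax (IsHFrame RatHTv coe_smul_eq smul_mem')

variable {F : Type*} [Field F] [Fintype F] {V : Type*} [AddCommGroup V] [Module F V] [FiniteDimensional F V]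
  {σ : F →+* F} {F₀ : Subfield F} {B : V →ₛₗ[σ] V →ₗ[F] F} {V₀ : Submodule F₀ V} {ε : F}
variable (hR : IsHFrame B V₀ ε) {M : Subgroup (isomGroup B)} (hM : RatHTv hR M) (hdim : 4 ≤ finrank F₀ V₀)
include hR hM hdim

/-- Above the rational special unitary group. -/
theorem herm_top {r : ℕ} (hr : r.Prime) (hcard : Fintype.card F = Nat.card F₀ ^ r) (hn : 4 ≤ finrank F V)
    {g : isomGroup B} (hg : g ∈ M) (hnot : ¬ ∃ s : F, s ≠ 0 ∧ ∀ f ∈ V₀, s • g.1 f ∈ V₀) : sIsom B ≤ M := by
  obtain ⟨e, hee, he⟩ := exists_moved hR hdim hnot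
  obtain ⟨a, ha0, haa, t, ht, ht0, htM⟩ := exists_long hR hM hdim
    (show B (g.1 (e : V)) (g.1 (e : V)) = 0 by rw [isomGroup_apply, hee])
    (show hR.hTv (g.1 (e : V)) 1 ∈ M by
      rw [← hR.conj_hTv _ hee (map_one σ)]
      exact mul_mem (mul_mem hg (hM _ e.2 hee 1 (one_mem _) (map_one σ))) (inv_mem hg)) he
  have hlong : ∀ (u : V₀), B (u : V) (u : V) = 0 → ∀ t, σ t = t → hR.hTv (u : V) t ∈ M := fun u huu s hs =>
    long_all hR hM hdim hr hcard ha0 haa ht ht0 htM huu hs
  obtain ⟨d, hd, hd'⟩ := hR.twisted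
  have hshort : ∀ (u x : V₀), B (u : V) (u : V) = 0 → B (x : V) (x : V) = 0 → B (u : V) (x : V) = 0 →
      ∀ t, hR.hS (u : V) (x : V) t ∈ M := by
    intro u x huu hxx hux
    have h1 : ∀ c ∈ F₀, ∀ s, σ s = s → hR.hS (u : V) (x : V) (s * σ c) ∈ M := by
      intro c hc s hs
      have h := hlong (u + (⟨c, hc⟩ : F₀) • x) (by simp [coe_smul_eq, huu, hxx, hux, hR.symm_zero hux]) s hs
      rw [Submodule.coe_add, SetLike.val_smul, coe_smul_eq, hR.hTv_add hxx huu hux c hs] at h
      exact (Subgroup.mul_mem_cancel_left M (hlong u huu s hs)).1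
        ((Subgroup.mul_mem_cancel_right M (hlong x hxx _ (by rw [map_mul, map_mul, hR.invol, hs]; ring))).1 h)
    intro t
    have hdd : d - σ d ≠ 0 := sub_ne_zero.2 (Ne.symm hd')
    set s₂ := (t - σ t) / (d - σ d) with hs₂
    have hf₂ : σ s₂ = s₂ := by
      rw [hs₂, map_div₀, map_sub, map_sub, hR.invol, hR.invol, ← neg_sub t, ← neg_sub d, neg_div_neg_eq]
    set s₁ := t - d * s₂ with hs₁
    have hf₁ : σ s₁ = s₁ := by
      rw [hs₁, map_sub, map_mul, hf₂]
      have : s₂ * (d - σ d) = t - σ t := by rw [hs₂, div_mul_cancel₀ _ hdd]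
      linear_combination this
    have e : t = s₁ * σ 1 + s₂ * σ (σ d) := by rw [map_one, hR.invol, hs₁]; ring
    rw [e, hR.hS_add huu hxx hux]
    exact mul_mem (h1 1 (one_mem _) _ hf₁) (h1 _ (hR.stable _ hd) _ hf₂)
  -- every isotropic vector is an axis
  refine hR.herm.sIsom_le_of_axes hR.nondeg hn fun v hvv => ?_
  by_cases hv0 : v = 0
  · rw [hv0]; exact hR.herm.isTAxis_zero M
  obtain ⟨u, huu, huv⟩ : ∃ u : V₀, B (u : V) (u : V) = 0 ∧ B (u : V) v ≠ 0 := by
    by_contra hc
    push Not at hc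
    refine hv0 (hR.sep fun z hz => ?_)
    have hz' : (⟨z, hz⟩ : V₀) ∈ Submodule.span F₀ (IsHFrame.isoPerp B V₀ []) :=
      hR.mem_span_iso [] (by simp; omega) (by simp)
    suffices ∀ y ∈ Submodule.span F₀ (IsHFrame.isoPerp B V₀ []), B (y : V) v = 0 from this _ hz'
    intro y hy
    induction hy using Submodule.span_induction with
    | mem y hy => exact hc y hy.1
    | zero => simp
    | add a b _ _ ha hb => simp [ha, hb]
    | smul c a _ ha => simp [coe_smul_eq, ha]
  have hu0 : u ≠ 0 := by rintro rfl; simp at huv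
  obtain ⟨f, hff, huf, -⟩ := hR.exists_iso_partner huu [] (by simp) (by simpa using hu0)
  have hfu : B (f : V) (u : V) = 1 := by rw [← hR.symm, huf, map_one]
  -- scale
  suffices IsTAxis M ((B (u : V) v)⁻¹ • v) by
    have h' := this.smul hR.invol huv
    rwa [smul_smul, mul_inv_cancel₀ huv, one_smul] at h'
  set v₁ := (B (u : V) v)⁻¹ • v with hv₁
  have huv₁ : B (u : V) v₁ = 1 := by rw [hv₁, map_smul, smul_eq_mul, inv_mul_cancel₀ huv]
  have hvv₁ : B v₁ v₁ = 0 := by rw [hv₁, hR.herm.smul_self, hvv, mul_zero]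
  -- the unipotent radical at `u`
  let π : V → V := fun z => z - B (u : V) z • (f : V) - B (f : V) z • (u : V)
  have hπadd : ∀ a b, π (a + b) = π a + π b := fun a b => by simp only [π, map_add, add_smul]; abel
  have hπsmul : ∀ (c : F) a, π (c • a) = c • π a := fun c a => by
    simp only [π, map_smul, smul_eq_mul, mul_smul, smul_sub]
  have hπperp : ∀ z, B (u : V) (π z) = 0 ∧ B (f : V) (π z) = 0 := fun z => by
    simp [π, huu, hff, huf, hfu]
  let Q : V → Prop := fun y => ∀ α : F, ∃ φ ∈ M, ∃ c : F, ∀ z,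
    (φ : isomGroup B).1 z = z - B (α • y) z • (u : V) + B (u : V) z • (α • y) + (c * B (u : V) z) • (u : V)
  have hQzero : Q 0 := fun α => ⟨1, M.one_mem, 0, fun z => by simp⟩
  have hQadd : ∀ y y', B (u : V) y = 0 → B (u : V) y' = 0 → Q y → Q y' → Q (y + y') := by
    intro y y' hy hy' hQy hQy' α
    obtain ⟨φ, hφ, c, hc⟩ := hQy α
    obtain ⟨φ', hφ', c', hc'⟩ := hQy' α
    refine ⟨φ * φ', mul_mem hφ hφ', c + c' - B (α • y) (α • y'), fun z => ?_⟩
    rw [Subgroup.coe_mul, LinearEquiv.mul_apply, hc, hc']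
    simp only [map_add, map_sub, map_smul, map_smulₛₗ, LinearMap.add_apply, LinearMap.smul_apply, smul_eq_mul,
      smul_add, huu, hy', hR.symm_zero hy]
    module
  have hQspan : ∀ x : V₀, B (u : V) (x : V) = 0 → B (f : V) (x : V) = 0 → Q (x : V) := by
    intro x hxu hxf
    have hx' := span_iso_pair hR hdim huu hff huf hxu hxf
    suffices ∀ y ∈ Submodule.span F₀ (IsHFrame.isoPerp B V₀ [u, f]), B (u : V) (y : V) = 0 ∧ Q (y : V) from
      (this x hx').2
    intro y hy
    induction hy using Submodule.span_induction with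
    | mem y hy =>
      have hyu : B (u : V) (y : V) = 0 := hy.2 u (by simp)
      refine ⟨hyu, fun α => ⟨hR.hS (u : V) (y : V) (σ (α / ε)), hshort u y huu hy.1 hyu _, 0, fun z => ?_⟩⟩
      rw [hR.hS_apply huu hy.1 hyu, hR.invol, mul_div_cancel₀ _ hR.eps_ne]
      simp only [map_smulₛₗ, LinearMap.smul_apply, smul_eq_mul, smul_smul, map_div₀, hR.eps_tr, zero_mul, zero_smul,
        add_zero]
      rw [show ε * (σ α / -ε) = -σ α by field_simp [hR.eps_ne]]
      module
    | zero => exact ⟨by simp, by simpa using hQzero⟩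
    | add a b _ _ ha hb =>
      exact ⟨by simp [ha.1, hb.1], by rw [Submodule.coe_add]; exact hQadd _ _ ha.1 hb.1 ha.2 hb.2⟩
    | smul k a _ ha =>
      refine ⟨by simp [coe_smul_eq, ha.1], fun α => ?_⟩
      rw [SetLike.val_smul, coe_smul_eq, smul_smul]
      exact ha.2 _
  have hQπ : ∀ y : V, Q (π y) := by
    intro y
    have hy : y ∈ Submodule.span F (V₀ : Set V) := hR.spans ▸ Submodule.mem_top
    induction hy using Submodule.span_induction with
    | mem z hz =>
      have hzmem : π z ∈ V₀ :=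
        sub_mem (sub_mem hz (smul_mem' (hR.form _ u.2 _ hz) f.2)) (smul_mem' (hR.form _ f.2 _ hz) u.2)
      exact hQspan ⟨π z, hzmem⟩ (hπperp z).1 (hπperp z).2
    | zero => simpa [π] using hQzero
    | add a b _ _ ha hb => rw [hπadd]; exact hQadd _ _ (hπperp a).1 (hπperp b).1 ha hb
    | smul c a _ ha =>
      intro α
      rw [hπsmul, smul_smul]
      exact ha _
  set y := (f : V) - v₁ + B (f : V) v₁ • (u : V) with hydef
  have hy1 : B (u : V) y = 0 := by simp [hydef, huf, huu, huv₁]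
  have hy2 : B (f : V) y = 0 := by simp [hydef, hff, hfu]
  have hπy : π y = y := by simp [π, hy1, hy2]
  obtain ⟨φ, hφ, c, hc⟩ := hQπ y 1
  have e : φ.1 v₁ = (f : V) + (B (f : V) v₁ + c - B y v₁) • (u : V) := by
    rw [hc, hπy, one_smul, huv₁, hydef]
    module
  set κ := B (f : V) v₁ + c - B y v₁ with hκ
  have hiso : B ((f : V) + κ • (u : V)) ((f : V) + κ • (u : V)) = 0 := by rw [← e, isomGroup_apply, hvv₁]
  have hκtr : σ κ = -κ := by
    simp [hff, huu, huf, hfu] at hiso
    linear_combination hiso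
  have hfix : σ (-κ / ε) = -κ / ε := by
    rw [map_div₀, map_neg, hκtr, hR.eps_tr]
    field_simp [hR.eps_ne]
  set ψ := hR.hTv (u : V) (-κ / ε) * φ
  have hψ : ψ ∈ M := mul_mem (hlong u huu _ hfix) hφ
  have hψv : ψ.1 v₁ = f := by
    rw [Subgroup.coe_mul, LinearEquiv.mul_apply, e, hR.hTv_apply huu hfix, map_add, map_smul, huu, huf,
      mul_div_cancel₀ _ hR.eps_ne, smul_zero, add_zero, mul_one]
    module
  have hf : IsTAxis M (f : V) := fun g d hg => by
    obtain ⟨h1, h2⟩ := hR.eq_hTv hg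
    rw [h2]; exact hlong f hff _ h1
  have := hf.map (inv_mem hψ)
  rwa [show (ψ⁻¹ : isomGroup B).1 (f : V) = v₁ from by rw [← hψv]; exact ψ.1.symm_apply_apply v₁] at this

end SubTop

/-- Subfield groups of odd prime index are maximal. -/
theorem subfieldOdd_maximal {F : Type*} [Field F] [Fintype F] (n q : ℕ) (hF : Fintype.card F = q ^ 2) (hn : 4 ≤ n) (F₀ : Subfield F) (r : ℕ) (hr : r.Prime) (hro : Odd r) (hcard : Fintype.card F = Nat.card F₀ ^ r) (P : Matrix.GeneralLinearGroup (Fin n) F) (hP : Cfsg.Geo.IsFormRationalStructure (Cfsg.hermForm n F q) F₀ 1 P) : Cfsg.Geo.IsMaximalIn (Cfsg.GU n F q ⊓ Cfsg.Geo.specialLinear (Fin n) F) (Cfsg.Geo.subfieldSubgroup F₀ P ⊓ (Cfsg.GU n F q ⊓ Cfsg.Geo.specialLinear (Fin n) F)) := by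
  classical
  obtain ⟨σ, hσ, hc⟩ := CfsgLib.Classical.exists_frob hF
  have hr2 : r ≠ 2 := by rintro rfl; exact absurd hro (by decide)
  have hr3 : 3 ≤ r := by have := hr.two_le; omega
  -- the fixed elements of `σ`
  have hfixcard : Nat.card {x : F // σ x = x} = q := by
    have h1 := (CfsgLib.Classical.frob_cards hF hσ hc).1
    have h2 : 1 ≤ q := by have := CfsgLib.Classical.two_le_of_card_sq hF; omega
    let K : Subfield F := σ.eqLocusField (RingHom.id F)
    have e1 : Nat.card {x : F // σ x = x} = Nat.card K := Nat.card_congr (Equiv.subtypeEquivRight fun x => Iff.rfl)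
    haveI := Fintype.ofFinite K
    have e2 : Nat.card Kˣ = Nat.card (CfsgLib.Classical.fixedUnits σ) := by
      refine Nat.card_congr
        { toFun := fun u => ⟨Units.map (K.subtype : K →* F) u, (u : K).2⟩
          invFun := fun u => ⟨⟨(u.1 : F), u.2⟩, ⟨((u.1⁻¹ : Fˣ) : F), (inv_mem u.2 : u.1⁻¹ ∈ CfsgLib.Classical.fixedUnits σ)⟩,
            Subtype.ext (by simp), Subtype.ext (by simp)⟩
          left_inv := fun u => Units.ext (Subtype.ext rfl)
          right_inv := fun u => Subtype.ext (Units.ext rfl) }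
    rw [Nat.card_units, h1] at e2
    have := Nat.card_pos (α := K)
    omega
  obtain ⟨lam, hlamfix, hlam⟩ : ∃ lam : F, σ lam = lam ∧ lam ∉ F₀ := by
    by_contra h
    push Not at h
    have h1 : q ≤ Nat.card F₀ := hfixcard ▸ Nat.card_le_card_of_injective
      (fun x : {x : F // σ x = x} => (⟨x.1, h x.1 x.2⟩ : F₀)) (fun a b e => Subtype.ext (congrArg (fun z : F₀ => (z : F)) e))
    have h2 : q ^ r ≤ q ^ 2 := hF ▸ hcard ▸ Nat.pow_le_pow_left h1 r
    have h3 := (Nat.pow_le_pow_iff_right (CfsgLib.Classical.two_le_of_card_sq hF)).1 h2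
    omega
  have hstable : ∀ c ∈ F₀, σ c ∈ F₀ := fun c hc' => by rw [hσ]; exact pow_mem hc' q
  have htw : ∃ c ∈ F₀, σ c ≠ c := by
    by_contra h
    push Not at h
    have hall : ∀ x : F, σ x = x := CfsgLib.Classical.SubfieldMax.eq_top_of_prime_degree hr hcard
      (σ.eqLocus (RingHom.id F)) (fun c hc' => h c hc') (μ := lam) hlamfix hlam
    exact hc.ne_id (RingHom.ext hall)
  obtain ⟨d, hd, hd'⟩ := htw
  let B := CfsgLib.Classical.stdHerm σ n
  let Pm : Matrix (Fin n) (Fin n) F := P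
  let Pi' : Matrix (Fin n) (Fin n) F := ((P⁻¹ : GL (Fin n) F) : Matrix _ _ F)
  have hPP : ∀ x, Pm.mulVec (Pi'.mulVec x) = x := fun x => by
    rw [Matrix.mulVec_mulVec, ← Units.val_mul, mul_inv_cancel, Units.val_one, Matrix.one_mulVec]
  have hPP' : ∀ x, Pi'.mulVec (Pm.mulVec x) = x := fun x => by
    rw [Matrix.mulVec_mulVec, ← Units.val_mul, inv_mul_cancel, Units.val_one, Matrix.one_mulVec]
  let V₀ : Submodule F₀ (Fin n → F) :=
    { carrier := {x | ∀ i, Pi'.mulVec x i ∈ F₀}
      add_mem' := fun {a b} ha hb i => by rw [Matrix.mulVec_add]; exact add_mem (ha i) (hb i)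
      zero_mem' := fun i => by rw [Matrix.mulVec_zero]; exact zero_mem F₀
      smul_mem' := fun c a ha i => by
        rw [CfsgLib.Classical.SubfieldMax.coe_smul_eq, Matrix.mulVec_smul]; exact mul_mem c.2 (ha i) }
  have hcol : ∀ j, Pm.mulVec (Pi.single j 1) ∈ V₀ := fun j i => by
    rw [hPP', Pi.single_apply]; split_ifs <;> [exact one_mem F₀; exact zero_mem F₀]
  have hR : CfsgLib.Classical.SubfieldMax.IsHFrame B V₀ (d - σ d) := by
    refine ⟨CfsgLib.Classical.stdHerm_isHermitian hc n, CfsgLib.Classical.stdHerm_sepRight n, hstable, ⟨d, hd, hd'⟩,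
      sub_mem hd (hstable d hd), sub_ne_zero.2 (Ne.symm hd'), by rw [map_sub, hc.invol, neg_sub], fun u hu v hv => ?_,
      eq_top_iff.2 fun x _ => ?_⟩
    · have h := hP _ _ hv hu
      rw [one_mul] at h
      rwa [hPP, hPP, CfsgLib.Classical.hermForm_eq_stdHerm hσ] at h
    · rw [show x = ∑ j, Pi'.mulVec x j • Pm.mulVec (Pi.single j 1) by
        rw [← (Finset.sum_congr rfl fun j _ => Matrix.mulVec_smul Pm (Pi'.mulVec x j) (Pi.single j 1)),
          ← Matrix.mulVec_sum]
        conv_lhs => rw [← hPP x]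
        congr 1
        ext i; simp [Finset.sum_apply, Pi.single_apply]]
      exact Submodule.sum_mem _ fun j _ => Submodule.smul_mem _ _ (Submodule.subset_span (hcol j))
  have hdim : 4 ≤ Module.finrank F₀ V₀ :=
    le_trans (by rw [Module.finrank_fin_fun]; omega) hR.finrank_le
  have hP' : ∀ g : CfsgLib.Classical.isomGroup B, CfsgLib.Classical.linToGL g.1 ∈ Geo.subfieldSubgroup F₀ P ↔
      ∃ s : F, s ≠ 0 ∧ ∀ f ∈ V₀, s • g.1 f ∈ V₀ := by
    intro g
    rw [CfsgLib.Classical.SubfieldMax.mem_subfieldSubgroup_iff]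
    refine exists_congr fun c => and_congr_right fun _ => ⟨fun h f hf i => ?_, fun h a b => ?_⟩
    · have e : Pi'.mulVec (c • g.1 f) =
          (c • ((P⁻¹ * CfsgLib.Classical.linToGL g.1 * P : GL (Fin n) F) : Matrix _ _ F)).mulVec (Pi'.mulVec f) := by
        rw [Matrix.mulVec_smul, Matrix.smul_mulVec, Units.val_mul, Units.val_mul, ← Matrix.mulVec_mulVec,
          ← Matrix.mulVec_mulVec, show (P : Matrix _ _ F).mulVec (Pi'.mulVec f) = f from hPP f,
          CfsgLib.Classical.linToGL_mulVec]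
      rw [e]
      simp only [Matrix.mulVec, dotProduct]
      refine Subfield.sum_mem _ fun j _ => mul_mem ?_ (hf j)
      exact h i j
    · have := h _ (hcol b) a
      rw [Matrix.mulVec_smul, Pi.smul_apply, ← CfsgLib.Classical.linToGL_mulVec, Matrix.mulVec_mulVec,
        Matrix.mulVec_mulVec, Matrix.mulVec_single_one] at this
      rw [Units.val_mul, Units.val_mul]
      exact this
  refine CfsgLib.Classical.gu_isMaximalIn hσ _ (fun g => ∃ s : F, s ≠ 0 ∧ ∀ f ∈ V₀, s • g.1 f ∈ V₀) hP' ?_ ?_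
  · obtain ⟨u, -, hu0, huu⟩ := hR.exists_iso_in ⊤ (by rw [finrank_top]; omega)
    obtain ⟨v, hvv, huv, -⟩ := hR.exists_iso_partner huu [] (by simp) (by simpa using hu0)
    have hvu : B (v : _ → F) (u : _ → F) = 1 := by rw [← hR.symm, huv, map_one]
    refine ⟨hR.hTv (u : _ → F) lam, hR.herm.idet_uTv (hR.hTv_isUTv huu hlamfix), fun ⟨s, hs, hsV⟩ => ?_⟩
    have h1 := hR.form _ v.2 _ (hsV _ u.2)
    rw [hR.hTv_apply huu hlamfix, huu, mul_zero, zero_smul, add_zero, map_smul, hvu, smul_eq_mul, mul_one] at h1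
    have h2 := hR.form _ v.2 _ (hsV _ v.2)
    rw [hR.hTv_apply huu hlamfix, huv, mul_one, map_smul, map_add, map_smul, hvv, hvu, zero_add, smul_eq_mul,
      smul_eq_mul, mul_one] at h2
    have h3 := div_mem h2 (mul_mem h1 hR.eps_mem)
    refine hlam ?_
    rwa [← mul_assoc, mul_div_cancel_left₀ _ (mul_ne_zero hs hR.eps_ne)] at h3
  · intro M hM g hg hgP
    refine SubTop.herm_top hR (M := M) ?_ hdim hr hcard
      (by rw [Module.finrank_fin_fun]; omega) hg hgP
    intro u hu huu t ht htf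
    refine hM _ (hR.herm.idet_uTv (hR.hTv_isUTv huu htf)) ⟨1, one_ne_zero, fun f hf => ?_⟩
    rw [one_smul, hR.hTv_apply huu htf]
    exact add_mem hf (CfsgLib.Classical.SubfieldMax.smul_mem' (mul_mem (mul_mem hR.eps_mem ht) (hR.form u hu f hf)) hu)

end CfsgLib.Classical.GeoFour.SU
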