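import Cfsg.Agent.Lib.Classical.SubfieldMax.HermReduce

/-!
# Above the subfield group of a unitary group there is everything (dimension at least four)

Every step uses only rational vectors in a totally isotropic plane or in a hyperbolic plane.
-/

set_option autoImplicit false
set_option linter.unusedSectionVars false
set_option backward.isDefEq.respectTransparency false

open Module Matrix
open scoped MatrixGroups

namespace CfsgLib.Classical.GeoFour.SU.SubTop

open SubfieldMax (IsHFrame RatHTv upper exists_borel_outside' coe_smul_eq smul_mem' eq_top_of_prime_degree)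

/-- A subgroup of `SL₂` is given by its elements realised in a group. -/
def planeGroup {F : Type*} [Field F] [Fintype F] (P : SL(2, F) → Prop) (h1 : P 1)
    (hmul : ∀ a b, P a → P b → P (a * b)) : Subgroup SL(2, F) where
  carrier := {k | P k}
  one_mem' := h1
  mul_mem' {a b} := hmul a b
  inv_mem' {k} hk := by
    let S : Submonoid SL(2, F) := { carrier := {k | P k}, one_mem' := h1, mul_mem' := fun {a b} => hmul a b }
    have e : k⁻¹ = k ^ (orderOf k - 1) := inv_eq_of_mul_eq_one_right (by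
      rw [← pow_succ', Nat.sub_add_cancel (orderOf_pos k), pow_orderOf_eq_one])
    show k⁻¹ ∈ S
    rw [e]
    exact pow_mem (show k ∈ S from hk) _

variable {F : Type*} [Field F] [Fintype F] {V : Type*} [AddCommGroup V] [Module F V] [FiniteDimensional F V]
  {σ : F →+* F} {F₀ : Subfield F} {B : V →ₛₗ[σ] V →ₗ[F] F} {V₀ : Submodule F₀ V} {ε : F}

variable (hR : IsHFrame B V₀ ε)

/-- The fixed field inside the subfield. -/
def fixSub (F₀ : Subfield F) (σ : F →+* F) : Subfield F := F₀ ⊓ σ.eqLocusField (RingHom.id F)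

theorem mem_fixSub {x : F} : x ∈ fixSub F₀ σ ↔ x ∈ F₀ ∧ σ x = x := Iff.rfl

include hR in
/-- Enough upper transvections and one element off the Borel subgroup. -/
theorem borel {K : Subgroup SL(2, F)} {c₀ t : F} (hc₀ : c₀ ≠ 0) (ht : t ∉ fixSub F₀ σ)
    (hup : ∀ s s' : F, s ∈ fixSub F₀ σ → s' ∈ fixSub F₀ σ → upper (c₀ * (s + s' * t)) ∈ K)
    {w : SL(2, F)} (hw : w ∈ K) (hw0 : (w : Matrix (Fin 2) (Fin 2) F) 1 0 ≠ 0) :
    ∃ k ∈ K, (k : Matrix (Fin 2) (Fin 2) F) 1 0 = 0 ∧
      (k : Matrix (Fin 2) (Fin 2) F) 0 0 ^ 2 ∉ fixSub F₀ σ := by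
  classical
  set k₀ := fixSub F₀ σ
  let T : (k₀ × k₀) →+ F :=
    { toFun := fun p => c₀ * ((p.1 : F) + (p.2 : F) * t)
      map_zero' := by simp
      map_add' := fun a b => by simp only [Prod.fst_add, Prod.snd_add, AddMemClass.coe_add]; ring }
  have hinj : Function.Injective T := by
    rw [injective_iff_map_eq_zero]
    rintro ⟨⟨a, ha⟩, ⟨b, hb⟩⟩ h
    have h1 : a + b * t = 0 := (mul_eq_zero.1 h).resolve_left hc₀
    by_cases hb0 : b = 0
    · subst hb0
      rw [zero_mul, add_zero] at h1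
      subst h1
      rfl
    · refine absurd ?_ ht
      rw [show t = -a / b by field_simp; linear_combination h1]
      exact div_mem (neg_mem ha) hb
  have hcard : Nat.card T.range = Nat.card k₀ ^ 2 := by
    rw [pow_two, ← Nat.card_prod]
    exact (Nat.card_congr (Equiv.ofInjective T hinj)).symm
  have h2 : 2 ≤ Nat.card k₀ := Finite.one_lt_card
  refine exists_borel_outside' K T.range ?_ hw hw0 k₀ ?_ hcard.ge
  · rintro _ ⟨⟨a, b⟩, rfl⟩
    exact hup _ _ a.2 b.2
  · rw [hcard]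
    rcases Nat.lt_or_ge 2 (Nat.card k₀) with h3 | h3
    · exact Or.inl (by nlinarith)
    · refine Or.inr ⟨?_, by nlinarith⟩
      have hk : Nat.card k₀ = 2 := by omega
      haveI := Fintype.ofFinite k₀
      have h := FiniteField.cast_card_eq_zero k₀
      rw [← Nat.card_eq_fintype_card, hk] at h
      have h' : (2 : F) = 0 := by
        have := congrArg k₀.subtype h
        rwa [map_natCast, map_zero, Nat.cast_ofNat] at this
      have hch : ringChar F = 2 := by
        have hdvd : ringChar F ∣ 2 := ringChar.dvd (R := F) (x := 2) (by exact_mod_cast h')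
        exact (Nat.prime_two.eq_one_or_self_of_dvd _ hdvd).resolve_left CharP.ringChar_ne_one
      exact Nat.even_iff.2 (FiniteField.even_card_of_char_two hch)

theorem hTv_smul {v : V} (hv : B v v = 0) (c : F) {t : F} (ht : σ t = t) :
    hR.hTv (c • v) t = hR.hTv v (t * (c * σ c)) := by
  refine Subtype.ext (LinearEquiv.ext fun z => ?_)
  rw [hR.hTv_apply (by simp [hv]) ht, hR.hTv_apply hv (by rw [map_mul, ht, hR.herm.conj.norm_fixed])]
  simp only [map_smulₛₗ, LinearMap.smul_apply, smul_eq_mul, smul_smul]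
  module

variable {M : Subgroup (isomGroup B)} (hM : RatHTv hR M) (hdim : 4 ≤ finrank F₀ V₀)
include hR hdim

/-- The isotropic vectors orthogonal to a hyperbolic pair span its orthogonal. -/
theorem span_iso_pair {u f : V₀} (huu : B (u : V) (u : V) = 0) (hff : B (f : V) (f : V) = 0)
    (huf : B (u : V) (f : V) = 1) {x : V₀} (hux : B (u : V) (x : V) = 0) (hfx : B (f : V) (x : V) = 0) :
    x ∈ Submodule.span F₀ (IsHFrame.isoPerp B V₀ [u, f]) := by
  have hfu : B (f : V) (u : V) = 1 := by rw [← hR.symm, huf, map_one]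
  set P := LinearMap.ker ((hR.form₀ u).prod (hR.form₀ f)) with hP
  have hmem : ∀ z, z ∈ P ↔ B (u : V) (z : V) = 0 ∧ B (f : V) (z : V) = 0 := fun z => by
    simp [hP, Prod.ext_iff, hR.form₀_eq_zero]
  have hnd : NondegOn hR.form₀ P := nondegOn_iff.2 fun y hy hperp => by
    refine Subtype.ext (hR.sep fun z hz => ?_)
    let z' : V₀ := ⟨z, hz⟩ - (hR.form₀ f ⟨z, hz⟩) • u - (hR.form₀ u ⟨z, hz⟩) • f
    have hz' : z' ∈ P := (hmem _).2 ⟨by simp [z', coe_smul_eq, hR.form₀_coe, huu, huf],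
      by simp [z', coe_smul_eq, hR.form₀_coe, hfu, hff]⟩
    have h1 := hR.form₀_eq_zero.1 (hperp _ hz')
    obtain ⟨hyu, hyf⟩ := (hmem _).1 hy
    simpa [z', coe_smul_eq, hyu, hyf] using h1
  have hd : 2 ≤ finrank F₀ P := by
    have h1 := ((hR.form₀ u).prod (hR.form₀ f)).finrank_range_add_finrank_ker
    have h2 : finrank F₀ (LinearMap.range ((hR.form₀ u).prod (hR.form₀ f))) ≤ 2 :=
      (Submodule.finrank_le _).trans (by simp)
    rw [← hP] at h1
    omega
  refine (hR.herm₀.le_span_isotropic hnd hd).trans (Submodule.span_mono ?_) ((hmem x).2 ⟨hux, hfx⟩)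
  intro y hy
  refine ⟨hR.form₀_eq_zero.1 hy.2, ?_⟩
  obtain ⟨h1, h2⟩ := (hmem _).1 hy.1
  simp [h1, h2]

theorem exists_iso_partner_one {u : V₀} (huu : B (u : V) (u : V) = 0) (hu : u ≠ 0) :
    ∃ f : V₀, B (f : V) (f : V) = 0 ∧ B (u : V) (f : V) = 1 := by
  obtain ⟨f, hff, huf, -⟩ := hR.exists_iso_partner huu [] (by simp) (by simpa using hu)
  exact ⟨f, hff, huf⟩

/-- A nonzero isotropic vector orthogonal to a hyperbolic pair, with a partner orthogonal to the pair. -/
theorem exists_perp_pair {u f : V₀} (huu : B (u : V) (u : V) = 0) (hff : B (f : V) (f : V) = 0)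
    (huf : B (u : V) (f : V) = 1) :
    ∃ v v' : V₀, v ≠ 0 ∧ B (v : V) (v : V) = 0 ∧ B (v' : V) (v' : V) = 0 ∧ B (v : V) (v' : V) = 1 ∧
      B (u : V) (v : V) = 0 ∧ B (f : V) (v : V) = 0 ∧ B (u : V) (v' : V) = 0 ∧ B (f : V) (v' : V) = 0 := by
  have hfu : B (f : V) (u : V) = 1 := by rw [← hR.symm, huf, map_one]
  set P := LinearMap.ker ((hR.form₀ u).prod (hR.form₀ f)) with hP
  have hd : 2 ≤ finrank F₀ P := by
    have h1 := ((hR.form₀ u).prod (hR.form₀ f)).finrank_range_add_finrank_ker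
    have h2 : finrank F₀ (LinearMap.range ((hR.form₀ u).prod (hR.form₀ f))) ≤ 2 :=
      (Submodule.finrank_le _).trans (by simp)
    rw [← hP] at h1
    omega
  obtain ⟨v, hv, hv0, hvv⟩ := hR.exists_iso_in P hd
  simp [hP, Prod.ext_iff, hR.form₀_eq_zero] at hv
  obtain ⟨v', hv'v', hvv', hL⟩ := hR.exists_iso_partner hvv [u, f] (by simp [hv.1, hv.2]) fun hc => hv0 (by
    rw [show {y | y ∈ [u, f]} = ({u, f} : Set V₀) by ext; simp] at hc
    obtain ⟨a, b, rfl⟩ := Submodule.mem_span_pair.1 hc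
    have h1 := hv.1
    have h2 := hv.2
    simp [coe_smul_eq, huu, huf, hff, hfu] at h1 h2
    rw [show a = 0 from Subtype.ext (by simpa using h2), show b = 0 from Subtype.ext (by simpa using h1)]; simp)
  exact ⟨v, v', hv0, hvv, hv'v', hvv', hv.1, hv.2, hL u (by simp), hL f (by simp)⟩

/-- An isometry not preserving the rational structure moves some isotropic rational vector off it. -/
theorem exists_moved {g : isomGroup B} (hnot : ¬ ∃ s : F, s ≠ 0 ∧ ∀ f ∈ V₀, s • g.1 f ∈ V₀) :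
    ∃ e : V₀, B (e : V) (e : V) = 0 ∧ ∀ s : F, s ≠ 0 → s • g.1 (e : V) ∉ V₀ := by
  by_contra hc
  push Not at hc
  choose s hs0 hs using hc
  obtain ⟨u, -, hu0, huu⟩ := hR.exists_iso_in ⊤ (by rw [finrank_top]; omega)
  refine hnot ⟨s u huu, hs0 u huu, fun f hf => ?_⟩
  suffices ∀ e : V₀, B (e : V) (e : V) = 0 → s u huu • g.1 (e : V) ∈ V₀ by
    have hspan := hR.mem_span_iso [] (by simp; omega) (x := ⟨f, hf⟩) (by simp)
    suffices ∀ y ∈ Submodule.span F₀ (IsHFrame.isoPerp B V₀ []), s u huu • g.1 (y : V) ∈ V₀ from this _ hspan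
    intro y hy
    induction hy using Submodule.span_induction with
    | mem y hy => exact this y hy.1
    | zero => simp
    | add a b _ _ ha hb => simpa [smul_add] using add_mem ha hb
    | smul c a _ ha =>
      rw [SetLike.val_smul, coe_smul_eq, map_smul, smul_comm]
      exact smul_mem' c.2 ha
  intro e hee
  by_cases he : e ∈ Submodule.span F₀ ({u} : Set V₀)
  · obtain ⟨c, rfl⟩ := Submodule.mem_span_singleton.1 he
    rw [SetLike.val_smul, coe_smul_eq, map_smul, smul_comm]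
    exact smul_mem' c.2 (hs u huu)
  -- a vector orthogonal to neither
  obtain ⟨x, hxx, hxu, hxe⟩ : ∃ x : V₀, B (x : V) (x : V) = 0 ∧ B (x : V) (u : V) ≠ 0 ∧ B (x : V) (e : V) ≠ 0 := by
    by_cases hue : B (u : V) (e : V) = 0
    · have he0 : e ≠ 0 := fun h => he (h ▸ zero_mem _)
      obtain ⟨y, hyy, hey, hyL⟩ := hR.exists_iso_partner hee [u] (by simpa using hue) fun hc => he (by
        simpa [show {z | z ∈ [u]} = ({u} : Set V₀) by ext; simp] using hc)
      have huy := hyL u (by simp)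
      obtain ⟨x, hxx, hux, hxL⟩ := hR.exists_iso_partner huu [e, y]
        (by simp [hR.symm_zero hue, hR.symm_zero huy]) fun hc => hu0 (by
        rw [show {z | z ∈ [e, y]} = ({e, y} : Set V₀) by ext; simp] at hc
        obtain ⟨a, b, hab⟩ := Submodule.mem_span_pair.1 hc
        have hye : B (y : V) (e : V) = 1 := by rw [← hR.symm, hey, map_one]
        have h1 := hR.symm_zero hue
        have h2 := hR.symm_zero huy
        rw [← hab] at h1 h2
        simp [coe_smul_eq, hee, hey, hyy, hye] at h1 h2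
        rw [← hab, show a = 0 from Subtype.ext (by simpa using h2), show b = 0 from Subtype.ext (by simpa using h1)]
        simp)
      have hex := hxL e (by simp)
      have hyx := hxL y (by simp)
      refine ⟨x + y, ?_, ?_, ?_⟩
      · simp [hxx, hyy, hyx, hR.symm_zero hyx]
      · simp [hR.symm_zero huy, show B (x : V) (u : V) = 1 by rw [← hR.symm, hux, map_one]]
      · simp [hR.symm_zero hex, show B (y : V) (e : V) = 1 by rw [← hR.symm, hey, map_one]]
    · set d : F₀ := ⟨ε / B (u : V) (e : V), div_mem hR.eps_mem (hR.form _ u.2 _ e.2)⟩ with hd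
      have hd0 : (d : F) ≠ 0 := div_ne_zero hR.eps_ne hue
      have heu : B (e : V) (u : V) ≠ 0 := fun h => hue (hR.symm_zero h)
      refine ⟨u + d • e, ?_, ?_, ?_⟩
      · rw [Submodule.coe_add, SetLike.val_smul, coe_smul_eq, hR.herm.add_self, hR.herm.smul_self, huu, hee, map_smul,
          smul_eq_mul, hd, div_mul_cancel₀ _ hue, hR.eps_tr]
        ring
      · simp [coe_smul_eq, huu, hd0, heu]
      · simp [coe_smul_eq, hee, hue]
  -- the scalars agree
  have key : ∀ (a : V₀) (ha : B (a : V) (a : V) = 0), B (x : V) (a : V) ≠ 0 → σ (s x hxx) * s a ha ∈ F₀ := by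
    intro a ha hxa
    have h := hR.form _ (hs x hxx) _ (hs a ha)
    have h' : σ (s x hxx) * s a ha * B (x : V) (a : V) ∈ F₀ := by
      convert h using 1
      simp only [map_smulₛₗ, LinearMap.smul_apply, isomGroup_apply, smul_eq_mul, RingHom.id_apply]
      ring
    have := div_mem h' (hR.form _ x.2 _ a.2)
    rwa [mul_div_cancel_right₀ _ hxa] at this
  have h1 := div_mem (key u huu hxu) (key e hee hxe)
  have e1 : s u huu • g.1 (e : V) =
      (σ (s x hxx) * s u huu / (σ (s x hxx) * s e hee)) • (s e hee • g.1 (e : V)) := by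
    rw [smul_smul]
    congr 1
    have := (map_ne_zero σ).2 (hs0 x hxx)
    have := hs0 e hee
    field_simp
  rw [e1]
  exact smul_mem' h1 (hs e hee)

/-- An irrational isotropic vector sees an irrational ratio on some totally isotropic rational plane. -/
theorem exists_plane {w : V} (hnot : ∀ s : F, s ≠ 0 → s • w ∉ V₀) :
    ∃ u v : V₀, B (u : V) (u : V) = 0 ∧ B (v : V) (v : V) = 0 ∧ B (u : V) (v : V) = 0 ∧
      B w (u : V) ≠ 0 ∧ B w (v : V) / B w (u : V) ∉ F₀ := by
  by_contra hc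
  push Not at hc
  have hspan : ∀ y : V₀, y ∈ Submodule.span F₀ (IsHFrame.isoPerp B V₀ []) := fun y =>
    hR.mem_span_iso [] (by simp; omega) (by simp)
  obtain ⟨u, huu, hwu⟩ : ∃ u : V₀, B (u : V) (u : V) = 0 ∧ B w (u : V) ≠ 0 := by
    by_contra h
    push Not at h
    refine hnot 1 one_ne_zero ?_
    suffices w = 0 by simp [this]
    refine hR.sep fun z hz => hR.symm_zero ?_
    suffices ∀ y ∈ Submodule.span F₀ (IsHFrame.isoPerp B V₀ []), B w (y : V) = 0 from this _ (hspan ⟨z, hz⟩)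
    intro y hy
    induction hy using Submodule.span_induction with
    | mem y hy => exact h y hy.1
    | zero => simp
    | add a b _ _ ha hb => simp [ha, hb]
    | smul c a _ ha => simp [coe_smul_eq, ha]
  suffices hall : ∀ y : V₀, B (y : V) (y : V) = 0 → B w (y : V) / B w (u : V) ∈ F₀ by
    refine hnot (σ (B w (u : V))⁻¹) ((map_ne_zero σ).2 (inv_ne_zero hwu)) (hR.mem_of_pairing fun z hz => ?_)
    rw [map_smulₛₗ, LinearMap.smul_apply, hR.invol, smul_eq_mul]
    suffices ∀ y ∈ Submodule.span F₀ (IsHFrame.isoPerp B V₀ []), B w (y : V) / B w (u : V) ∈ F₀ by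
      rw [inv_mul_eq_div]; exact this _ (hspan ⟨z, hz⟩)
    intro y hy
    induction hy using Submodule.span_induction with
    | mem y hy => exact hall y hy.1
    | zero => simp
    | add a b _ _ ha hb => simpa [add_div] using add_mem ha hb
    | smul c a _ ha =>
      rw [SetLike.val_smul, coe_smul_eq, map_smul, smul_eq_mul, mul_div_assoc]
      exact mul_mem c.2 ha
  intro y hyy
  have chain : ∀ (a b c : V₀), B (a : V) (a : V) = 0 → B (b : V) (b : V) = 0 → B (c : V) (c : V) = 0 →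
      B (a : V) (c : V) = 0 → B (c : V) (b : V) = 0 → B w (a : V) ≠ 0 → B w (c : V) ≠ 0 →
      B w (b : V) / B w (a : V) ∈ F₀ := fun a b c ha hb hc' hac hcb hwa hwc => by
    have := mul_mem (hc c b hc' hb hcb hwc) (hc a c ha hc' hac hwa)
    rwa [div_mul_div_cancel₀ hwc] at this
  by_cases hwy : B w (y : V) = 0
  · simp [hwy]
  by_cases huy : B (u : V) (y : V) = 0
  · exact hc u y huu hyy huy hwu
  -- normalise
  obtain ⟨y', hy'y', huy', e, he, rfl⟩ : ∃ y' : V₀, B (y' : V) (y' : V) = 0 ∧ B (u : V) (y' : V) = 1 ∧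
      ∃ e : F₀, (e : F) ≠ 0 ∧ y = e • y' := by
    let e : F₀ := ⟨B (u : V) (y : V), hR.form _ u.2 _ y.2⟩
    have he : (e : F) ≠ 0 := huy
    refine ⟨e⁻¹ • y, ?_, ?_, e, he, ?_⟩
    · simp [coe_smul_eq, hyy]
    · rw [SetLike.val_smul, coe_smul_eq, map_smul, smul_eq_mul]
      exact inv_mul_cancel₀ huy
    · rw [smul_smul, mul_inv_cancel₀ (fun h => he (by rw [h]; rfl)), one_smul]
  rw [SetLike.val_smul, coe_smul_eq, map_smul, smul_eq_mul] at hwy ⊢
  rw [mul_div_assoc]
  refine mul_mem e.2 ?_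
  have hy'u : B (y' : V) (u : V) = 1 := by rw [← hR.symm, huy', map_one]
  obtain ⟨v, v', -, hvv, hv'v', hvv', huv, hyv, huv', hyv'⟩ := exists_perp_pair hR hdim huu hy'y' huy'
  by_cases hwv : B w (v : V) = 0
  swap
  · exact chain u y' v huu hy'y' hvv huv (hR.symm_zero hyv) hwu hwv
  by_cases hwv' : B w (v' : V) = 0
  swap
  · exact chain u y' v' huu hy'y' hv'v' huv' (hR.symm_zero hyv') hwu hwv'
  have hv'v : B (v' : V) (v : V) = 1 := by rw [← hR.symm, hvv', map_one]
  -- pass through `u + v`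
  have hu1 : B ((u + v : V₀) : V) ((u + v : V₀) : V) = 0 := by simp [huu, hvv, huv, hR.symm_zero huv]
  have hc1 : B ((v' - y' : V₀) : V) ((v' - y' : V₀) : V) = 0 := by
    simp [hv'v', hy'y', hyv', hR.symm_zero hyv']
  have h1 := chain (u + v) y' (v' - y') hu1 hy'y' hc1
    (by simp [huy', huv', hvv', hR.symm_zero hyv])
    (by simp [hy'y', hR.symm_zero hyv'])
    (by simpa [hwv] using hwu) (by simpa [hwv'] using (mul_ne_zero_iff.1 hwy).2)
  simpa [hwv] using h1

include hM

/-- A rational element moving one vector of a totally isotropic rational plane along the other. -/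
theorem exists_mover {u x : V₀} (huu : B (u : V) (u : V) = 0) (hxx : B (x : V) (x : V) = 0)
    (hux : B (u : V) (x : V) = 0) (hx : x ∉ Submodule.span F₀ {z | z ∈ [u]}) {d : F} (hd : d ∈ F₀) :
    ∃ g ∈ M, g.1 (u : V) = u ∧ g.1 (x : V) = (x : V) + d • (u : V) := by
  obtain ⟨x', hx'x', hxx', hL⟩ := hR.exists_iso_partner hxx [u] (by simpa using hux) hx
  have hux' := hL u (by simp)
  refine ⟨_, hM.hS_mem u.2 x'.2 huu hx'x' hux' (div_mem hd hR.eps_mem), ?_, ?_⟩
  · rw [hR.hS_apply huu hx'x' hux', huu, hR.symm_zero hux']; simp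
  · rw [hR.hS_apply huu hx'x' hux', hux, show B (x' : V) (x : V) = 1 by rw [← hR.symm, hxx', map_one],
      mul_div_cancel₀ _ hR.eps_ne]
    simp

/-- A transvection at an irrational vector of a totally isotropic rational plane. -/
theorem long_of_vec {u x : V₀} (huu : B (u : V) (u : V) = 0) (hxx : B (x : V) (x : V) = 0)
    (hux : B (u : V) (x : V) = 0) (hu : u ∉ Submodule.span F₀ {z | z ∈ [x]})
    (hx : x ∉ Submodule.span F₀ {z | z ∈ [u]})
    (hno : ∀ a : V₀, a ≠ 0 → B (a : V) (a : V) = 0 → ∀ t, σ t = t → hR.hTv (a : V) t ∈ M → t ∈ F₀)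
    {p₁ p₂ : F} (hp : hR.hTv (p₁ • (u : V) + p₂ • (x : V)) 1 ∈ M) :
    p₁ * σ p₁ ∈ F₀ ∧ p₂ * σ p₂ ∈ F₀ ∧ p₁ * σ p₂ ∈ F₀ := by
  have hiso : ∀ a b : F, B (a • (u : V) + b • (x : V)) (a • (u : V) + b • (x : V)) = 0 := fun a b => by
    simp [huu, hxx, hux, hR.symm_zero hux]
  have conjP : ∀ {a b d : F}, d ∈ F₀ → hR.hTv (a • (u : V) + b • (x : V)) 1 ∈ M →
      hR.hTv ((a + d * b) • (u : V) + b • (x : V)) 1 ∈ M := by
    intro a b d hd h
    obtain ⟨g, hg, hgu, hgx⟩ := exists_mover hR hM hdim huu hxx hux hx hd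
    have := mul_mem (mul_mem hg h) (inv_mem hg)
    rwa [hR.conj_hTv g (hiso a b) (map_one σ), map_add, map_smul, map_smul, hgu, hgx, smul_add, ← add_assoc,
      add_right_comm, smul_smul, ← add_smul, mul_comm b d] at this
  obtain ⟨η, hη⟩ := hR.conj₀.exists_trace_eq (a := 1) (map_one _)
  have hη' : (η : F) + σ (η : F) = 1 := by
    simpa [hR.sig₀_coe] using congrArg (Subtype.val : F₀ → F) hη
  -- second differences
  have hsq : ∀ {u x : V₀}, B (u : V) (u : V) = 0 → B (x : V) (x : V) = 0 → B (u : V) (x : V) = 0 → u ≠ 0 →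
      ∀ {a b : F}, (∀ d ∈ F₀, hR.hTv ((a + d * b) • (u : V) + b • (x : V)) 1 ∈ M) → b * σ b ∈ F₀ := by
    intro u x huu hxx hux hu0 a b h
    have hiso : ∀ a b : F, B (a • (u : V) + b • (x : V)) (a • (u : V) + b • (x : V)) = 0 := fun a b => by
      simp [huu, hxx, hux, hR.symm_zero hux]
    have hfix : σ (b * σ b) = b * σ b := hR.herm.conj.norm_fixed b
    refine hno u hu0 huu _ hfix ?_
    have e : hR.hTv ((a + (1 + η) * b) • (u : V) + b • (x : V)) 1 * hR.hTv (a • (u : V) + b • (x : V)) 1 =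
        hR.hTv (u : V) (b * σ b) * (hR.hTv ((a + 1 * b) • (u : V) + b • (x : V)) 1 *
          hR.hTv ((a + η * b) • (u : V) + b • (x : V)) 1) := by
      refine Subtype.ext (LinearEquiv.ext fun z => ?_)
      have hxu := hR.symm_zero hux
      simp only [Subgroup.coe_mul, LinearEquiv.mul_apply, hR.hTv_apply (hiso _ _) (map_one σ),
        hR.hTv_apply huu hfix, map_add, map_smul, map_smulₛₗ, LinearMap.add_apply, LinearMap.smul_apply, smul_eq_mul,
        huu, hxx, hux, hxu, map_mul, map_one]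
      match_scalars
      all_goals first
        | ring1
        | linear_combination (ε * b * σ b * B (u : V) z) * hη'
        | linear_combination (-(ε * b * σ b * B (u : V) z)) * hη'
    have h0 := h 0 (zero_mem _)
    rw [zero_mul, add_zero] at h0
    have h1 := mul_mem (h (1 + η) (add_mem (one_mem _) η.2)) h0
    rw [e] at h1
    exact (Subgroup.mul_mem_cancel_right M (mul_mem (h 1 (one_mem _)) (h η η.2))).1 h1
  have hu0 : u ≠ 0 := fun h => hu (h ▸ zero_mem _)
  have hx0 : x ≠ 0 := fun h => hx (h ▸ zero_mem _)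
  have h2 : p₂ * σ p₂ ∈ F₀ := hsq huu hxx hux hu0 fun d hd => conjP hd hp
  have h1 : p₁ * σ p₁ ∈ F₀ := by
    refine hsq hxx huu (hR.symm_zero hux) hx0 (a := p₂) fun d hd => ?_
    obtain ⟨g, hg, hgx, hgu⟩ := exists_mover hR hM hdim hxx huu (hR.symm_zero hux) hu hd
    have := mul_mem (mul_mem hg hp) (inv_mem hg)
    rw [hR.conj_hTv g (hiso p₁ p₂) (map_one σ), map_add, map_smul, map_smul, hgu, hgx] at this
    convert this using 2
    module
  refine ⟨h1, h2, ?_⟩
  -- first differences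
  have hτ : ∀ d ∈ F₀, σ d * (p₁ * σ p₂) + d * σ (p₁ * σ p₂) ∈ F₀ := by
    intro d hd
    set τ := σ d * (p₁ * σ p₂) + d * σ (p₁ * σ p₂) + d * σ d * (p₂ * σ p₂) with hτdef
    have hτf : σ τ = τ := by simp only [hτdef, map_add, map_mul, hR.invol]; ring
    have hq : d * (p₂ * σ p₂) ∈ F₀ := mul_mem hd h2
    have e : hR.hTv ((p₁ + d * p₂) • (u : V) + p₂ • (x : V)) 1 =
        hR.hTv (u : V) τ * (hR.hTv (p₁ • (u : V) + p₂ • (x : V)) 1 * hR.hS (u : V) (x : V) (d * (p₂ * σ p₂))) := by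
      refine Subtype.ext (LinearEquiv.ext fun z => ?_)
      have hxu := hR.symm_zero hux
      simp only [Subgroup.coe_mul, LinearEquiv.mul_apply, hR.hTv_apply (hiso _ _) (map_one σ),
        hR.hTv_apply huu hτf, hR.hS_apply huu hxx hux, map_add, map_smul, map_smulₛₗ, LinearMap.add_apply,
        LinearMap.smul_apply, smul_eq_mul, huu, hxx, hux, hxu, map_mul, hR.invol]
      simp only [hτdef, map_mul, hR.invol]
      module
    have h3 := conjP hd hp
    rw [e] at h3
    have h4 := hno u hu0 huu τ hτf ((Subgroup.mul_mem_cancel_right M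
      (mul_mem hp (hM.hS_mem u.2 x.2 huu hxx hux hq))).1 h3)
    rw [hτdef] at h4
    exact (add_mem_cancel_right (mul_mem (mul_mem hd (hR.stable _ hd)) h2)).1 h4
  obtain ⟨d, hd, hd'⟩ := hR.twisted
  have h3 := hτ 1 (one_mem _)
  have h4 := hτ d hd
  rw [map_one, one_mul, one_mul] at h3
  have h5 := div_mem (sub_mem h4 (mul_mem hd h3)) (sub_mem (hR.stable _ hd) hd)
  rwa [show σ d * (p₁ * σ p₂) + d * σ (p₁ * σ p₂) - d * (p₁ * σ p₂ + σ (p₁ * σ p₂)) = (p₁ * σ p₂) * (σ d - d) by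
    ring, mul_div_cancel_right₀ _ (sub_ne_zero.2 hd')] at h5

set_option maxHeartbeats 800000 in
/-- An irrational isotropic axis gives an irrational transvection at a rational vector. -/
theorem exists_long {w : V} (hww : B w w = 0) (hw : hR.hTv w 1 ∈ M) (hnot : ∀ s : F, s ≠ 0 → s • w ∉ V₀) :
    ∃ a : V₀, a ≠ 0 ∧ B (a : V) (a : V) = 0 ∧ ∃ t, σ t = t ∧ t ∉ F₀ ∧ hR.hTv (a : V) t ∈ M := by
  classical
  obtain ⟨u, v, huu, hvv, huv, hwu, hz⟩ := exists_plane hR hdim hnot
  by_contra hno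
  replace hno : ∀ a : V₀, a ≠ 0 → B (a : V) (a : V) = 0 → ∀ t, σ t = t → hR.hTv (a : V) t ∈ M → t ∈ F₀ :=
    fun a ha haa t ht htM => by_contra fun h => hno ⟨a, ha, haa, t, ht, h, htM⟩
  set β := B w (u : V) with hβ
  -- choose the second vector so that the norm of the ratio is irrational
  obtain ⟨x, hxx, hux, hν, hzx⟩ : ∃ x : V₀, B (x : V) (x : V) = 0 ∧ B (u : V) (x : V) = 0 ∧
      (B w (x : V) / β) * σ (B w (x : V) / β) ∉ F₀ ∧ B w (x : V) / β ∉ F₀ := by
    set z := B w (v : V) / β with hzdef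
    by_contra hc
    push Not at hc
    have key : ∀ d ∈ F₀, (z + d) * σ (z + d) ∈ F₀ := fun d hd => by
      set x := v + (⟨d, hd⟩ : F₀) • u with hx
      have e : B w (x : V) / β = z + d := by
        rw [hx, Submodule.coe_add, SetLike.val_smul, coe_smul_eq, map_add, map_smul, smul_eq_mul, ← hβ, add_div,
          mul_div_cancel_right₀ _ hwu]
      have := hc x (by simp [hx, coe_smul_eq, huu, hvv, huv, hR.symm_zero huv])
        (by simp [hx, coe_smul_eq, huu, huv])
      rw [e] at this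
      by_contra h
      exact hz ((add_mem_cancel_right hd).1 (this h))
    have h0 := key 0 (zero_mem _)
    rw [add_zero] at h0
    obtain ⟨d, hd, hd'⟩ := hR.twisted
    have h1 : σ z + z ∈ F₀ := by
      have := sub_mem (sub_mem (key 1 (one_mem _)) h0) (one_mem _)
      convert this using 1
      rw [map_add, map_one]; ring
    have h2 : z * σ d + d * σ z ∈ F₀ := by
      have := sub_mem (sub_mem (key d hd) h0) (mul_mem hd (hR.stable _ hd))
      convert this using 1
      rw [map_add]; ring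
    have h3 := div_mem (sub_mem h2 (mul_mem hd h1)) (sub_mem (hR.stable _ hd) hd)
    rw [show z * σ d + d * σ z - d * (σ z + z) = z * (σ d - d) by ring,
      mul_div_cancel_right₀ _ (sub_ne_zero.2 hd')] at h3
    exact hz h3
  set z := B w (x : V) / β with hzdef
  have hu0 : u ≠ 0 := fun h => hwu (by rw [hβ, h]; simp)
  have hx_u : x ∉ Submodule.span F₀ {y | y ∈ [u]} := fun hc => by
    obtain ⟨c, rfl⟩ := SubfieldMax.mem_span_single.1 hc
    refine hzx ?_
    rw [hzdef, SetLike.val_smul, coe_smul_eq, map_smul, smul_eq_mul, ← hβ, mul_div_cancel_right₀ _ hwu]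
    exact c.2
  have hu_x : u ∉ Submodule.span F₀ {y | y ∈ [x]} := fun hc => by
    obtain ⟨c, hcx⟩ := SubfieldMax.mem_span_single.1 hc
    by_cases hc0 : c = 0
    · exact hu0 (by rw [← hcx, hc0, zero_smul])
    refine hx_u (SubfieldMax.mem_span_single.2 ⟨c⁻¹, ?_⟩)
    rw [← hcx, smul_smul, inv_mul_cancel₀ hc0, one_smul]
  set y := (x : V) - z • (u : V) with hy
  have hxu := hR.symm_zero hux
  have hwy : B w y = 0 := by
    rw [hy, map_sub, map_smul, smul_eq_mul, hzdef, ← hβ, div_mul_cancel₀ _ hwu, sub_self]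
  have huy : B (u : V) y = 0 := by simp [hy, huu, hux]
  have hxy : B (x : V) y = 0 := by simp [hy, hxx, hxu]
  have hyy : B y y = 0 := by simp [hy, huu, hux, hxu, hxx]
  have hxw : B (x : V) w = σ z * σ β := by
    rw [← hR.symm w, ← map_mul, hzdef, div_mul_cancel₀ _ hwu]
  have huw : B (u : V) w = σ β := (hR.symm _ _).symm
  let P : SL(2, F) → Prop := fun k => ∃ m ∈ M, ∃ a b : F,
    (m : isomGroup B).1 (u : V) =
      (k : Matrix (Fin 2) (Fin 2) F) 0 0 • (u : V) + (k : Matrix (Fin 2) (Fin 2) F) 1 0 • w + a • y ∧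
    (m : isomGroup B).1 w =
      (k : Matrix (Fin 2) (Fin 2) F) 0 1 • (u : V) + (k : Matrix (Fin 2) (Fin 2) F) 1 1 • w + b • y ∧
    (m : isomGroup B).1 y = y
  let K : Subgroup SL(2, F) := planeGroup P ⟨1, M.one_mem, 0, 0, by simp, by simp, rfl⟩ (by
    rintro k k' ⟨m, hm, a, b, h1, h2, h3⟩ ⟨m', hm', a', b', h1', h2', h3'⟩
    refine ⟨m * m', mul_mem hm hm', (k' : Matrix (Fin 2) (Fin 2) F) 0 0 * a + (k' : Matrix (Fin 2) (Fin 2) F) 1 0 * b + a',
      (k' : Matrix (Fin 2) (Fin 2) F) 0 1 * a + (k' : Matrix (Fin 2) (Fin 2) F) 1 1 * b + b', ?_, ?_, by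
        rw [Subgroup.coe_mul, LinearEquiv.mul_apply, h3', h3]⟩
    all_goals simp only [Subgroup.coe_mul, LinearEquiv.mul_apply, h1', h2', map_add, map_smul, h1, h2, h3,
      Matrix.SpecialLinearGroup.coe_mul, Matrix.mul_apply, Fin.sum_univ_two]
    all_goals module)
  set ν := z * σ z with hνdef
  have hνfix : σ ν = ν := hR.herm.conj.norm_fixed z
  have hup : ∀ s s' : F, s ∈ fixSub F₀ σ → s' ∈ fixSub F₀ σ → upper (ε * σ β * (s + s' * ν)) ∈ K := by
    intro s s' ⟨hs, hsf⟩ ⟨hs', hsf'⟩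
    have hsf0 : σ s = s := hsf
    have hsf0' : σ s' = s' := hsf'
    refine ⟨hR.hTv (u : V) s * hR.hTv (x : V) s', mul_mem (hM _ u.2 huu s hs hsf0) (hM _ x.2 hxx s' hs' hsf0'),
      0, ε * σ β * s' * σ z, ?_, ?_, ?_⟩
    all_goals simp only [Subgroup.coe_mul, LinearEquiv.mul_apply, hR.hTv_apply huu hsf0, hR.hTv_apply hxx hsf0',
      map_add, map_smul, smul_eq_mul, huu, hxu, hux, huw, hxw, huy, hxy]
    all_goals simp [upper, hy, hνdef]
    all_goals module
  let w₀ : SL(2, F) := ⟨!![1, 0; ε * β, 1], by simp⟩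
  have hw₀ : w₀ ∈ K := by
    refine ⟨hR.hTv w 1, hw, 0, 0, ?_, ?_, ?_⟩
    · rw [hR.hTv_apply hww (map_one σ), mul_one, ← hβ]; simp [w₀]
    · rw [hR.hTv_apply hww (map_one σ), hww]; simp [w₀]
    · rw [hR.hTv_apply hww (map_one σ), hwy]; simp
  have hσβ : σ β ≠ 0 := (map_ne_zero σ).2 hwu
  obtain ⟨k, ⟨m, hm, a, b, hmu, hmw, hmy⟩, hk0, hksq⟩ :=
    borel hR (mul_ne_zero hR.eps_ne hσβ) (fun h => hν h.1) hup hw₀
      (by simpa [w₀] using mul_ne_zero hR.eps_ne hwu)
  set γ := (k : Matrix (Fin 2) (Fin 2) F) 0 0 with hγ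
  rw [hk0, zero_smul, add_zero] at hmu
  have hγfix : σ γ = γ := by
    have hdet : γ * (k : Matrix (Fin 2) (Fin 2) F) 1 1 = 1 := by
      have := k.det_coe
      rwa [det_fin_two, hk0, mul_zero, sub_zero] at this
    have h := isomGroup_apply m (u : V) w
    rw [hmu, hmw] at h
    simp only [map_add, map_smul, map_smulₛₗ, LinearMap.add_apply, LinearMap.smul_apply, smul_eq_mul, huu, huw, huy,
      hyy, hR.symm_zero huy, hR.symm_zero hwy, mul_zero, add_zero, zero_add] at h
    have h1 : σ γ * (k : Matrix (Fin 2) (Fin 2) F) 1 1 = 1 := mul_right_cancel₀ hσβ (by linear_combination h)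
    have hk11 : (k : Matrix (Fin 2) (Fin 2) F) 1 1 ≠ 0 := right_ne_zero_of_mul_eq_one hdet
    exact mul_right_cancel₀ hk11 (h1.trans hdet.symm)
  -- the images of the rational vectors of the plane
  set p₁ := γ - a * z
  set q₁ := z * p₁ - z
  set q₂ := z * a + 1
  have hmu' : m.1 (u : V) = p₁ • (u : V) + a • (x : V) := by rw [hmu, hy]; module
  have hmx : m.1 (x : V) = q₁ • (u : V) + q₂ • (x : V) := by
    have : (x : V) = z • (u : V) + y := by rw [hy]; abel
    conv_lhs => rw [this]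
    rw [map_add, map_smul, hmy, hmu', hy]
    module
  have himg : ∀ r : V₀, B (r : V) (r : V) = 0 → ∀ {c₁ c₂ : F}, m.1 (r : V) = c₁ • (u : V) + c₂ • (x : V) →
      c₁ * σ c₁ ∈ F₀ ∧ c₂ * σ c₂ ∈ F₀ ∧ c₁ * σ c₂ ∈ F₀ := by
    intro r hrr c₁ c₂ h
    refine long_of_vec hR hM hdim huu hxx hux hu_x hx_u hno ?_
    rw [← h, ← hR.conj_hTv m hrr (map_one σ)]
    exact mul_mem (mul_mem hm (hM _ r.2 hrr 1 (one_mem _) (map_one σ))) (inv_mem hm)
  obtain ⟨P1, P2, P12⟩ := himg u huu hmu'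
  obtain ⟨Q1, Q2, Q12⟩ := himg x hxx hmx
  obtain ⟨d, hd, hd'⟩ := hR.twisted
  have hsum : ∀ c ∈ F₀, (p₁ + c * q₁) * σ (p₁ + c * q₁) ∈ F₀ ∧ (a + c * q₂) * σ (a + c * q₂) ∈ F₀ ∧
      (p₁ + c * q₁) * σ (a + c * q₂) ∈ F₀ := by
    intro c hc
    refine himg (u + (⟨c, hc⟩ : F₀) • x) (by simp [coe_smul_eq, huu, hxx, hux, hxu]) ?_
    rw [Submodule.coe_add, SetLike.val_smul, coe_smul_eq, map_add, map_smul, hmu', hmx]
    module
  have pol : ∀ {A A' C C' : F}, A * σ A' ∈ F₀ → C * σ C' ∈ F₀ →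
      (∀ c ∈ F₀, (A + c * C) * σ (A' + c * C') ∈ F₀) → A * σ C' ∈ F₀ := by
    intro A A' C C' hA hC h
    have e : ∀ c ∈ F₀, σ c * (A * σ C') + c * (C * σ A') ∈ F₀ := fun c hc => by
      have := sub_mem (sub_mem (h c hc) hA) (mul_mem (mul_mem hc (hR.stable _ hc)) hC)
      convert this using 1
      rw [map_add, map_mul]; ring
    have h1 := e 1 (one_mem _)
    have h2 := e d hd
    rw [map_one, one_mul, one_mul] at h1
    have h3 := div_mem (sub_mem h2 (mul_mem hd h1)) (sub_mem (hR.stable _ hd) hd)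
    rwa [show σ d * (A * σ C') + d * (C * σ A') - d * (A * σ C' + C * σ A') = (A * σ C') * (σ d - d) by ring,
      mul_div_cancel_right₀ _ (sub_ne_zero.2 hd')] at h3
  refine hksq ⟨?_, show σ (γ ^ 2) = γ ^ 2 by rw [map_pow, hγfix]⟩
  have hexp : γ ^ 2 = (p₁ * σ p₁) * (q₂ * σ q₂) + (a * σ a) * (q₁ * σ q₁) - (p₁ * σ a) * σ (q₁ * σ q₂)
      - σ (p₁ * σ a) * (q₁ * σ q₂) := by
    have hdet : p₁ * q₂ - a * q₁ = γ := by simp only [p₁, q₁, q₂]; ring
    have e2 : γ ^ 2 = (p₁ * q₂ - a * q₁) * σ (p₁ * q₂ - a * q₁) := by rw [hdet, hγfix, pow_two]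
    rw [e2]
    simp only [map_sub, map_mul, hR.invol]
    ring
  rw [hexp]
  exact sub_mem (sub_mem (add_mem (mul_mem P1 Q2) (mul_mem P2 Q1)) (mul_mem P12 (hR.stable _ Q12)))
    (mul_mem (hR.stable _ P12) Q12)

/-- Coefficients move between orthogonal vectors. -/
theorem move {a v : V₀} (haa : B (a : V) (a : V) = 0) (hvv : B (v : V) (v : V) = 0) (hav : B (a : V) (v : V) = 0)
    (ha : a ∉ Submodule.span F₀ {z | z ∈ [v]}) (hv : v ∉ Submodule.span F₀ {z | z ∈ [a]}) {t : F} (ht : σ t = t)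
    (h : hR.hTv (a : V) t ∈ M) : hR.hTv (v : V) t ∈ M := by
  obtain ⟨g, hg, -, hga⟩ := exists_mover hR hM hdim hvv haa (hR.symm_zero hav) ha (one_mem F₀)
  obtain ⟨g', hg', hg'a, hg'v⟩ := exists_mover hR hM hdim haa hvv hav hv (neg_mem (one_mem F₀))
  have h1 := mul_mem (mul_mem (mul_mem hg' hg) h) (inv_mem (mul_mem hg' hg))
  rwa [hR.conj_hTv _ haa ht, Subgroup.coe_mul, LinearEquiv.mul_apply, hga, one_smul, map_add, hg'a, hg'v,
    show (a : V) + ((v : V) + (-1 : F) • (a : V)) = v by module] at h1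

/-- Coefficients move to every vector. -/
theorem move_all {a : V₀} (ha0 : a ≠ 0) (haa : B (a : V) (a : V) = 0) {t : F} (ht : σ t = t)
    (h : hR.hTv (a : V) t ∈ M) {b : V₀} (hbb : B (b : V) (b : V) = 0) : hR.hTv (b : V) t ∈ M := by
  by_cases hb0 : b = 0
  · subst hb0
    convert M.one_mem using 1
    exact Subtype.ext (LinearEquiv.ext fun z => by rw [hR.hTv_apply (by simp) ht]; simp)
  have indep : ∀ {p q : V₀}, p ≠ 0 → q ∉ Submodule.span F₀ {z | z ∈ [p]} → q ≠ 0 →
      p ∉ Submodule.span F₀ {z | z ∈ [q]} := fun {p q} hp hq hq0 hc => by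
    obtain ⟨c, hc⟩ := SubfieldMax.mem_span_single.1 hc
    refine hq (SubfieldMax.mem_span_single.2 ⟨c⁻¹, ?_⟩)
    rw [← hc, smul_smul, inv_mul_cancel₀ (fun e => hp (by rw [← hc, e, zero_smul])), one_smul]
  by_cases hab : B (a : V) (b : V) = 0 ∧ b ∉ Submodule.span F₀ {z | z ∈ [a]}
  · exact move hR hM hdim haa hbb hab.1 (indep ha0 hab.2 hb0) hab.2 ht h
  -- a common neighbour
  obtain ⟨v, hvv, hav, hbv, hva, hvb⟩ : ∃ v : V₀, B (v : V) (v : V) = 0 ∧ B (a : V) (v : V) = 0 ∧
      B (b : V) (v : V) = 0 ∧ v ∉ Submodule.span F₀ {z | z ∈ [a]} ∧ v ∉ Submodule.span F₀ {z | z ∈ [b]} := by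
    have hbuild : ∀ f : V₀, B (f : V) (f : V) = 0 → B (a : V) (f : V) = 1 →
        (∃ c d : F₀, b = c • a + d • f) → ∃ v : V₀, B (v : V) (v : V) = 0 ∧ B (a : V) (v : V) = 0 ∧
          B (b : V) (v : V) = 0 ∧ v ∉ Submodule.span F₀ {z | z ∈ [a]} ∧
          v ∉ Submodule.span F₀ {z | z ∈ [b]} := by
      rintro f hff haf ⟨c, d, hb⟩
      obtain ⟨v, v', hv0, hvv, -, hvv', hav, hfv, hav', hfv'⟩ := exists_perp_pair hR hdim haa hff haf
      have hav2 : ∀ (k : F₀), k • a ≠ v := fun k hk => by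
        have := hvv'
        rw [← hk] at this
        simp [coe_smul_eq, hav'] at this
      refine ⟨v, hvv, hav, ?_, fun hc => ?_, fun hc => ?_⟩
      · subst hb; simp [coe_smul_eq, hav, hfv]
      · obtain ⟨k, hk⟩ := SubfieldMax.mem_span_single.1 hc
        exact hav2 k hk
      · obtain ⟨k, hk⟩ := SubfieldMax.mem_span_single.1 hc
        have := hvv'
        rw [← hk, hb] at this
        simp [coe_smul_eq, hav', hfv'] at this
    by_cases hab' : B (a : V) (b : V) = 0
    · have hb : b ∈ Submodule.span F₀ {z | z ∈ [a]} := by_contra fun h => hab ⟨hab', h⟩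
      obtain ⟨c, hc⟩ := SubfieldMax.mem_span_single.1 hb
      obtain ⟨f, hff, haf⟩ := exists_iso_partner_one hR hdim haa ha0
      exact hbuild f hff haf ⟨c, 0, by simp [hc]⟩
    · let c : F₀ := ⟨B (a : V) (b : V), hR.form _ a.2 _ b.2⟩
      have hc : c ≠ 0 := fun e => hab' (congrArg Subtype.val e)
      refine hbuild (c⁻¹ • b) (by simp [coe_smul_eq, hbb]) ?_ ⟨0, c, by
        rw [smul_smul, mul_inv_cancel₀ hc, one_smul, zero_smul, zero_add]⟩
      rw [SetLike.val_smul, coe_smul_eq, map_smul, smul_eq_mul]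
      exact inv_mul_cancel₀ hab'
  have hv0 : v ≠ 0 := fun e => hva (e ▸ zero_mem _)
  exact move hR hM hdim hvv hbb (hR.symm_zero hbv) hvb (indep hb0 hvb hv0) ht
    (move hR hM hdim haa hvv hav (indep ha0 hva hv0) hva ht h)

/-- One irrational coefficient gives all. -/
theorem long_all {r : ℕ} (hr : r.Prime) (hcard : Fintype.card F = Nat.card F₀ ^ r) {a : V₀} (ha0 : a ≠ 0)
    (haa : B (a : V) (a : V) = 0) {t : F} (ht : σ t = t) (ht0 : t ∉ F₀) (htM : hR.hTv (a : V) t ∈ M)
    {b : V₀} (hbb : B (b : V) (b : V) = 0) {s : F} (hs : σ s = s) : hR.hTv (b : V) s ∈ M := by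
  classical
  obtain ⟨f, hff, haf⟩ := exists_iso_partner_one hR hdim haa ha0
  have hfa : B (f : V) (a : V) = 1 := by rw [← hR.symm, haf, map_one]
  refine move_all hR hM hdim ha0 haa hs ?_ hbb
  let T : Set F := {s | σ s = s ∧ hR.hTv (a : V) s ∈ M}
  have hTadd : ∀ {s s'}, s ∈ T → s' ∈ T → s + s' ∈ T := fun {s s'} h h' =>
    ⟨by rw [map_add, h.1, h'.1], by rw [← hR.hTv_mul haa h.1 h'.1]; exact mul_mem h.2 h'.2⟩
  have hTmul : ∀ {c s}, c ∈ fixSub F₀ σ → s ∈ T → c * s ∈ T := by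
    intro c s hc hsT
    obtain ⟨e, he⟩ := hR.conj₀.exists_norm_eq (a := ⟨c, hc.1⟩) (Subtype.ext hc.2)
    have he' : (e : F) * σ (e : F) = c := by simpa [hR.sig₀_coe] using congrArg (Subtype.val : F₀ → F) he
    have h1 := move_all hR hM hdim ha0 haa hsT.1 hsT.2 (b := e • a) (by simp [coe_smul_eq, haa])
    rw [SetLike.val_smul, coe_smul_eq, hTv_smul hR haa _ hsT.1, he', mul_comm] at h1
    exact ⟨by rw [map_mul, hsT.1, show σ c = c from hc.2], h1⟩
  have h1T : (1 : F) ∈ T := ⟨map_one σ, hM _ a.2 haa 1 (one_mem _) (map_one σ)⟩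
  let P : SL(2, F) → Prop := fun k => ∃ m ∈ M,
    (m : isomGroup B).1 (a : V) =
      (k : Matrix (Fin 2) (Fin 2) F) 0 0 • (a : V) + (k : Matrix (Fin 2) (Fin 2) F) 1 0 • (f : V) ∧
    (m : isomGroup B).1 (f : V) =
      (k : Matrix (Fin 2) (Fin 2) F) 0 1 • (a : V) + (k : Matrix (Fin 2) (Fin 2) F) 1 1 • (f : V)
  let K : Subgroup SL(2, F) := planeGroup P ⟨1, M.one_mem, by simp, by simp⟩ (by
    rintro k k' ⟨m, hm, h1, h2⟩ ⟨m', hm', h1', h2'⟩
    refine ⟨m * m', mul_mem hm hm', ?_, ?_⟩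
    all_goals simp only [Subgroup.coe_mul, LinearEquiv.mul_apply, h1', h2', map_add, map_smul, h1, h2,
      Matrix.SpecialLinearGroup.coe_mul, Matrix.mul_apply, Fin.sum_univ_two]
    all_goals module)
  have hup : ∀ c c' : F, c ∈ fixSub F₀ σ → c' ∈ fixSub F₀ σ → upper (ε * (c + c' * t)) ∈ K := by
    intro c c' hc hc'
    have hc1 : c ∈ T := by simpa using hTmul hc h1T
    have h := hTadd hc1 (hTmul hc' ⟨ht, htM⟩)
    refine ⟨_, h.2, ?_, ?_⟩
    · rw [hR.hTv_apply haa h.1, haa]; simp [upper]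
    · rw [hR.hTv_apply haa h.1, haf]; simp [upper]; module
  let w₀ : SL(2, F) := ⟨!![1, 0; ε, 1], by simp⟩
  have hw₀ : w₀ ∈ K := by
    refine ⟨hR.hTv (f : V) 1, hM _ f.2 hff 1 (one_mem _) (map_one σ), ?_, ?_⟩
    · rw [hR.hTv_apply hff (map_one σ), hfa]; simp [w₀]
    · rw [hR.hTv_apply hff (map_one σ), hff]; simp [w₀]
  obtain ⟨k, ⟨m, hm, hma, hmf⟩, hk0, hksq⟩ :=
    borel hR hR.eps_ne (fun h => ht0 h.1) hup hw₀ (by simpa [w₀] using hR.eps_ne)
  set γ := (k : Matrix (Fin 2) (Fin 2) F) 0 0 with hγ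
  rw [hk0, zero_smul, add_zero] at hma
  have hγfix : σ γ = γ := by
    have hdet : γ * (k : Matrix (Fin 2) (Fin 2) F) 1 1 = 1 := by
      have := k.det_coe
      rwa [det_fin_two, hk0, mul_zero, sub_zero] at this
    have h := isomGroup_apply m (a : V) (f : V)
    rw [hma, hmf] at h
    simp only [map_add, map_smul, map_smulₛₗ, LinearMap.smul_apply, smul_eq_mul, haa, haf, mul_zero, mul_one,
      zero_add] at h
    exact mul_right_cancel₀ (right_ne_zero_of_mul_eq_one hdet) ((show σ γ * _ = 1 by linear_combination h).trans hdet.symm)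
  have hTγ : ∀ {s}, s ∈ T → γ ^ 2 * s ∈ T := by
    intro s hsT
    have h1 := mul_mem (mul_mem hm hsT.2) (inv_mem hm)
    rw [hR.conj_hTv m haa hsT.1, hma, hTv_smul hR haa γ hsT.1, hγfix] at h1
    refine ⟨by rw [map_mul, map_pow, hγfix, hsT.1], ?_⟩
    convert h1 using 2
    ring
  let Q : Submodule F₀ F := Submodule.span F₀ T
  let R : Subring F :=
    { carrier := {c | ∀ b ∈ Q, c * b ∈ Q}
      one_mem' := fun b hb => by rwa [one_mul]
      zero_mem' := fun b _ => by rw [zero_mul]; exact zero_mem Q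
      add_mem' := fun {a c} ha hc b hb => by rw [add_mul]; exact add_mem (ha b hb) (hc b hb)
      neg_mem' := fun {a} ha b hb => by rw [neg_mul]; exact neg_mem (ha b hb)
      mul_mem' := fun {a c} ha hc b hb => by rw [mul_assoc]; exact ha _ (hc b hb) }
  have hR' : ∀ c, c ∈ R := eq_top_of_prime_degree hr hcard R
    (fun c hc b hb => Q.smul_mem ⟨c, hc⟩ hb)
    (show γ ^ 2 ∈ R from fun b hb => by
      induction hb using Submodule.span_induction with
      | mem b hb => exact Submodule.subset_span (hTγ hb)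
      | zero => rw [mul_zero]; exact zero_mem Q
      | add a b _ _ ha hb => rw [mul_add]; exact add_mem ha hb
      | smul c a _ ha =>
        rw [Subfield.smul_def, smul_eq_mul, mul_left_comm]
        exact Q.smul_mem c ha)
    (fun h => hksq ⟨h, show σ (γ ^ 2) = γ ^ 2 by rw [map_pow, hγfix]⟩)
  have hsQ : s ∈ Q := by simpa using hR' s 1 (Submodule.subset_span h1T)
  have key : ∀ y ∈ Q, ∀ c ∈ F₀, c * y + σ (c * y) ∈ T := by
    intro y hy
    induction hy using Submodule.span_induction with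
    | mem y hy =>
      intro c hc
      rw [map_mul, hy.1, ← add_mul]
      exact hTmul ⟨add_mem hc (hR.stable _ hc), show σ (c + σ c) = c + σ c by rw [map_add, hR.invol, add_comm]⟩ hy
    | zero =>
      intro c _
      rw [mul_zero, map_zero, add_zero]
      exact ⟨map_zero σ, by rw [hR.hTv_zero]; exact M.one_mem⟩
    | add y y' _ _ hy hy' =>
      intro c hc
      convert hTadd (hy c hc) (hy' c hc) using 1
      rw [mul_add, map_add]; ring
    | smul d y _ hy =>
      intro c hc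
      rw [Subfield.smul_def, smul_eq_mul, ← mul_assoc]
      exact hy _ (mul_mem hc d.2)
  obtain ⟨η, hη⟩ := hR.conj₀.exists_trace_eq (a := 1) (map_one _)
  have hη' : (η : F) + σ (η : F) = 1 := by simpa [hR.sig₀_coe] using congrArg (Subtype.val : F₀ → F) hη
  have h := key s hsQ η η.2
  rw [map_mul, hs, ← add_mul, hη', one_mul] at h
  exact h.2

end CfsgLib.Classical.GeoFour.SU.SubTop
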