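import Cfsg.Agent.Lib.Classical.UFrameMax.OddFrame

/-!
# Four terms of prescribed norms with vanishing sum and prescribed product

Given fixed nonzero `m`, `M`, either there are four pairwise non-proportional quadruples with norms
`m, m, M, M`, product `m * M` and sum zero, or a degenerate pair `(a, a, c, σ c)` with fixed `a`.
-/

set_option autoImplicit false
set_option linter.unusedSectionVars false

open CfsgLib.Classical CfsgLib.Classical.UFrameMax

namespace CfsgLib.Classical.GeoFour.SU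

variable {F : Type*} [Field F] [DecidableEq F] [Fintype F] {σ : F →+* F}

/-- A quadruple with norms `m, m, M, M`, product `m * M` and sum zero. -/
structure Good (σ : F →+* F) (m M : F) (t : Fin 4 → F) : Prop where
  n0 : t 0 * σ (t 0) = m
  n1 : t 1 * σ (t 1) = m
  n2 : t 2 * σ (t 2) = M
  n3 : t 3 * σ (t 3) = M
  prod : t 0 * t 1 * t 2 * t 3 = m * M
  sum : t 0 + t 1 + t 2 + t 3 = 0

/-- A degenerate pair. -/
def Degenerate (σ : F →+* F) (m M : F) : Prop :=
  ∃ a c : F, σ a = a ∧ a * a = m ∧ c * σ c = M ∧ σ c ≠ c ∧ a + a + (c + σ c) = 0 ∧ a + a ≠ 0 ∧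
    ∀ r : F, σ r = r → r * r ≠ M

/-- The traces of the elements of norm `m`. -/
def trN (σ : F →+* F) (m : F) : Finset F := (Finset.univ.filter fun x => x * σ x = m).image fun x => x + σ x

variable (hc : IsConjugation σ)
include hc

theorem trN_subset (m : F) : trN σ m ⊆ fixS σ := fun x hx => by
  obtain ⟨y, -, rfl⟩ := Finset.mem_image.1 hx
  rw [mem_fixS, map_add, hc.invol, add_comm]

omit hc in
theorem mem_trN {m x : F} : x ∈ trN σ m ↔ ∃ y : F, y * σ y = m ∧ y + σ y = x := by simp [trN]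

theorem neg_mem_trN {m x : F} (h : x ∈ trN σ m) : -x ∈ trN σ m := by
  obtain ⟨y, hy, rfl⟩ := mem_trN.1 h
  exact mem_trN.2 ⟨-y, by rw [map_neg, neg_mul_neg, hy], by rw [map_neg, neg_add]⟩

theorem card_trN {m : F} (hm : σ m = m) (hm0 : m ≠ 0) : (fixS σ).card + 1 ≤ 2 * (trN σ m).card := by
  obtain ⟨α, hα⟩ := hc.exists_norm_eq hm
  have hα0 : α ≠ 0 := fun e => hm0 (by rw [← hα, e, zero_mul])
  rw [← card_circ hc]
  refine Finset.card_le_mul_card_image_of_maps_to (f := fun l : F => α * l + σ (α * l)) (fun l hl => ?_) _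
    (fun τ _ => ?_)
  · refine mem_trN.2 ⟨α * l, ?_, rfl⟩
    rw [map_mul]
    linear_combination (α * σ α) * (mem_circ.1 hl) + hα
  · by_cases hne : ({x ∈ circ σ | α * x + σ (α * x) = τ}).Nonempty
    · obtain ⟨y, hy⟩ := hne
      refine le_trans (Finset.card_le_card (t := {y, σ (α * y) / α}) fun x hx => ?_) Finset.card_le_two
      simp only [Finset.mem_filter, mem_circ] at hx hy
      have hN : ∀ {z : F}, z * σ z = 1 → α * z * σ (α * z) = m := fun {z} hz => by
        rw [map_mul]; linear_combination (α * σ α) * hz + hα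
      have h3 : (α * x - α * y) * (α * x - σ (α * y)) = 0 := by
        linear_combination (α * x) * (hx.2.trans hy.2.symm) - hN hx.1 + hN hy.1
      simp only [Finset.mem_insert, Finset.mem_singleton]
      refine (mul_eq_zero.1 h3).imp (fun e => mul_left_cancel₀ hα0 (sub_eq_zero.1 e)) fun e => ?_
      rw [← sub_eq_zero.1 e, mul_div_cancel_left₀ _ hα0]
    · rw [Finset.not_nonempty_iff_eq_empty.1 hne]; simp

theorem card_trN_sq {r : F} (hr : σ r = r) (hr0 : r ≠ 0) :
    (fixS σ).card + 2 ≤ 2 * (trN σ (r * r)).card := by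
  refine (card_trS hc).trans (Nat.mul_le_mul_left 2 ?_)
  rw [← card_aff hc (a := (0 : F)) hr0]
  refine Finset.card_le_card fun x hx => ?_
  obtain ⟨τ, hτ, rfl⟩ := Finset.mem_image.1 hx
  obtain ⟨l, hl, rfl⟩ := mem_trS.1 hτ
  exact mem_trN.2 ⟨r * l, by rw [map_mul, hr]; linear_combination (r * r) * hl, by rw [map_mul, hr]; ring⟩

/-- Two elements with opposite nonzero traces. -/
theorem exists_opposite {m M : F} (hm : σ m = m) (hM : σ M = M) (hm0 : m ≠ 0) (hM0 : M ≠ 0)
    (hsq : (∃ r, σ r = r ∧ r * r = m) ∨ ∃ r, σ r = r ∧ r * r = M) :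
    ∃ a c : F, a * σ a = m ∧ c * σ c = M ∧ a + σ a + (c + σ c) = 0 ∧ a + σ a ≠ 0 := by
  have h1 := card_trN hc hm hm0
  have h2 := card_trN hc hM hM0
  have h3 : (fixS σ).card + 2 ≤ (trN σ m).card + (trN σ M).card := by
    rcases hsq with ⟨r, hr, rfl⟩ | ⟨r, hr, rfl⟩
    · have := card_trN_sq hc hr (fun e => hm0 (by rw [e, zero_mul]))
      omega
    · have := card_trN_sq hc hr (fun e => hM0 (by rw [e, zero_mul]))
      omega
  obtain ⟨x, hx, hx', hx0⟩ := two_common (trN_subset hc m) (trN_subset hc M) h3 0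
  obtain ⟨a, ha, rfl⟩ := mem_trN.1 hx
  obtain ⟨c, hc', hcx⟩ := mem_trN.1 (neg_mem_trN hc hx')
  exact ⟨a, c, ha, hc', by rw [hcx, add_neg_cancel], hx0⟩

/-- Four quadruples from two non-fixed elements with opposite nonzero traces. -/
theorem four_of_opposite {m M a c : F} (ha : a * σ a = m) (hcM : c * σ c = M)
    (htr : a + σ a + (c + σ c) = 0) (htr0 : a + σ a ≠ 0) (ha1 : σ a ≠ a) (hc1 : σ c ≠ c) :
    ∃ t : Fin 4 → Fin 4 → F, (∀ i, Good σ m M (t i)) ∧ ∀ i j, i ≠ j → ∀ l : F, t i ≠ l • t j := by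
  refine ⟨![![σ a, a, σ c, c], ![a, σ a, σ c, c], ![σ a, a, c, σ c], ![a, σ a, c, σ c]], fun i => ?_, ?_⟩
  · fin_cases i <;> constructor <;>
      simp only [Matrix.cons_val_zero, Matrix.cons_val_one, Matrix.cons_val, Fin.isValue, Fin.zero_eta,
        Fin.mk_one, Fin.reduceFinMk, hc.invol] <;>
      first
        | linear_combination ha
        | linear_combination hcM
        | linear_combination htr
        | linear_combination (c * σ c) * ha + m * hcM
  · intro i j hij l h
    have hsum : ∀ k : Fin 4, (![![σ a, a, σ c, c], ![a, σ a, σ c, c], ![σ a, a, c, σ c], ![a, σ a, c, σ c]]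
        : Fin 4 → Fin 4 → F) k 0 + (![![σ a, a, σ c, c], ![a, σ a, σ c, c], ![σ a, a, c, σ c], ![a, σ a, c, σ c]]
        : Fin 4 → Fin 4 → F) k 1 = a + σ a := fun k => by fin_cases k <;> simp [add_comm]
    have h01 : a + σ a = l * (a + σ a) := by
      conv_lhs => rw [← hsum i, h]
      rw [Pi.smul_apply, Pi.smul_apply, smul_eq_mul, smul_eq_mul, ← mul_add, hsum j]
    obtain rfl : l = 1 := mul_right_cancel₀ htr0 (h01.symm.trans (one_mul _).symm)
    rw [one_smul] at h
    have h0 := congrFun h 0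
    have h2 := congrFun h 2
    fin_cases i <;> fin_cases j <;> simp at hij h0 h2 <;>
      first
        | exact ha1 h0
        | exact ha1 h0.symm
        | exact hc1 h2
        | exact hc1 h2.symm

/-- Four quadruples when `m * M` is a square of a fixed element. -/
theorem four_of_square {m M r : F} (hm : σ m = m) (hm0 : m ≠ 0) (hM0 : M ≠ 0) (h2 : (2 : F) ≠ 0) (hr : σ r = r)
    (hr2 : r * r = m * M) {l : F} (hl : l * σ l = 1) (hl4 : l ^ 4 ≠ 1) :
    ∃ t : Fin 4 → Fin 4 → F, (∀ i, Good σ m M (t i)) ∧ ∀ i j, i ≠ j → ∀ k : F, t i ≠ k • t j := by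
  obtain ⟨a₀, ha₀⟩ := hc.exists_norm_eq hm
  have ha0 : a₀ ≠ 0 := fun e => hm0 (by rw [← ha₀, e, zero_mul])
  have hl0 : l ≠ 0 := norm_ne_zero_of hl
  let a : Fin 4 → F := ![a₀, a₀ * l, a₀, a₀ * l]
  let s : Fin 4 → F := ![1, 1, -1, -1]
  have ha : ∀ i, a i * σ (a i) = m := fun i => by
    fin_cases i <;> simp [a] <;> first | exact ha₀ | linear_combination (a₀ * σ a₀) * hl + ha₀
  have hs : ∀ i, s i * s i = 1 ∧ σ (s i) = s i := fun i => by fin_cases i <;> simp [s]
  have hai : ∀ i, a i ≠ 0 := fun i e => hm0 (by rw [← ha i, e, zero_mul])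
  refine ⟨fun i => ![a i, -a i, s i * r / a i, -(s i * r / a i)], fun i => ?_, fun i j hij k h => hij ?_⟩
  · have hσa : σ (a i) ≠ 0 := fun e => hm0 (by rw [← ha i, e, mul_zero])
    have hM : s i * r / a i * σ (s i * r / a i) = M := by
      rw [map_div₀, map_mul, (hs i).2, hr, div_mul_div_comm, ha i, div_eq_iff hm0]
      linear_combination (r * r) * (hs i).1 + hr2
    constructor <;> simp only [Matrix.cons_val_zero, Matrix.cons_val_one, Matrix.cons_val, Fin.isValue,
      map_neg, neg_mul_neg]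
    · exact ha i
    · exact ha i
    · exact hM
    · exact hM
    · have := hai i
      field_simp
      linear_combination (r * r) * (hs i).1 + hr2
    · ring
  · have h0 : a i = k * a j := by simpa using congrFun h 0
    have h3 : s i * r / a i = k * (s j * r / a j) := by simpa using congrFun h 2
    have hr0 : r ≠ 0 := fun e => by
      rw [e, zero_mul] at hr2
      exact mul_ne_zero hm0 hM0 hr2.symm
    have key : a i * a i * s j = a j * a j * s i := by
      have := hai i
      have := hai j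
      have h5 : r * (s i * a j) = r * (k * a i * s j) := by
        field_simp at h3 ⊢
        linear_combination h3
      have h6 := mul_left_cancel₀ hr0 h5
      linear_combination (-a j) * h6 + (a i * s j) * h0
    have h4 : ∀ {u : F}, u = 1 ∨ u = -1 → l * l ≠ u := fun {u} hu e => hl4 (by
      rcases hu with hu | hu <;> rw [hu] at e
      · linear_combination (l * l + 1) * e
      · linear_combination (l * l - 1) * e)
    have h0' : a₀ * a₀ ≠ 0 := mul_ne_zero ha0 ha0
    have h22 : (2 : F) * (a₀ * a₀) ≠ 0 := mul_ne_zero h2 h0'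
    have h23 : (2 : F) * (a₀ * a₀) * (l * l) ≠ 0 := mul_ne_zero h22 (mul_ne_zero hl0 hl0)
    fin_cases i <;> fin_cases j <;> simp [a, s] at key ⊢
    all_goals
      first
        | (exact h22 (by linear_combination key))
        | (exact h22 (by linear_combination -key))
        | (exact h23 (by linear_combination key))
        | (exact h23 (by linear_combination -key))
        | (exact h4 (Or.inl rfl) (mul_left_cancel₀ h0' (by linear_combination key)))
        | (exact h4 (Or.inl rfl) (mul_left_cancel₀ h0' (by linear_combination -key)))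
        | (exact h4 (Or.inr rfl) (mul_left_cancel₀ h0' (by linear_combination key)))
        | (exact h4 (Or.inr rfl) (mul_left_cancel₀ h0' (by linear_combination -key)))

/-- The trichotomy. -/
theorem tuples_or_degenerate {m M : F} (hm : σ m = m) (hM : σ M = M) (hm0 : m ≠ 0) (hM0 : M ≠ 0)
    {l : F} (hl : l * σ l = 1) (hl4 : l ^ 4 ≠ 1) :
    (∃ t : Fin 4 → Fin 4 → F, (∀ i, Good σ m M (t i)) ∧ ∀ i j, i ≠ j → ∀ k : F, t i ≠ k • t j) ∨
      Degenerate σ m M ∨ Degenerate σ M m := by
  by_cases h2 : (2 : F) = 0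
  · -- every fixed element is a square
    obtain ⟨r, hr, hr2⟩ : ∃ r, σ r = r ∧ r * r = m := by
      have hch : ringChar F = 2 := by
        haveI : CharP F 2 := CharTwo.of_one_ne_zero_of_two_eq_zero one_ne_zero h2
        exact ringChar.eq F 2
      obtain ⟨r, hr⟩ := FiniteField.isSquare_of_char_two hch m
      refine ⟨r, sub_eq_zero.1 (mul_self_eq_zero.1 ?_), hr.symm⟩
      have h1 : σ r * σ r = r * r := by rw [← map_mul, ← hr, hm]
      linear_combination h1 + (r * r - σ r * r) * h2
    obtain ⟨a, c, ha, hcM, htr, htr0⟩ := exists_opposite hc hm hM hm0 hM0 (Or.inl ⟨r, hr, hr2⟩)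
    refine Or.inl (four_of_opposite hc ha hcM htr htr0 (fun e => htr0 ?_) fun e => htr0 ?_)
    · rw [e]; linear_combination a * h2
    · rw [e] at htr; linear_combination htr - c * h2
  by_cases hP : ∃ r, σ r = r ∧ r * r = m * M
  · obtain ⟨r, hr, hr2⟩ := hP
    exact Or.inl (four_of_square hc hm hm0 hM0 h2 hr hr2 hl hl4)
  have hsq : (∃ r, σ r = r ∧ r * r = m) ∨ ∃ r, σ r = r ∧ r * r = M := by
    obtain ⟨s, hs⟩ := fixed_isSquare hc h2 hm
    obtain ⟨u, hu⟩ := fixed_isSquare hc h2 hM
    rcases mul_self_eq_mul_self_iff.1 (show σ s * σ s = s * s by rw [← map_mul, hs, hm]) with h1 | h1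
    · exact Or.inl ⟨s, h1, hs⟩
    rcases mul_self_eq_mul_self_iff.1 (show σ u * σ u = u * u by rw [← map_mul, hu, hM]) with h3 | h3
    · exact Or.inr ⟨u, h3, hu⟩
    exact absurd ⟨s * u, by rw [map_mul, h1, h3, neg_mul_neg], by rw [← hs, ← hu]; ring⟩ hP
  obtain ⟨a, c, ha, hcM, htr, htr0⟩ := exists_opposite hc hm hM hm0 hM0 hsq
  by_cases ha1 : σ a = a
  · rw [ha1] at ha htr htr0
    refine Or.inr (Or.inl ⟨a, c, ha1, ha, hcM, fun e => hP ⟨a * c, by rw [map_mul, ha1, e], ?_⟩, htr, htr0,
      fun r hr hr2 => hP ⟨a * r, by rw [map_mul, ha1, hr], by rw [← ha, ← hr2]; ring⟩⟩)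
    rw [e] at hcM
    rw [← ha, ← hcM]; ring
  by_cases hc1 : σ c = c
  · rw [hc1] at hcM htr
    refine Or.inr (Or.inr ⟨c, a, hc1, hcM, ha, ha1, by linear_combination htr, fun e => htr0 ?_,
      fun r hr hr2 => hP ⟨r * c, by rw [map_mul, hc1, hr], by rw [← hcM, ← hr2]; ring⟩⟩)
    linear_combination htr - e
  exact Or.inl (four_of_opposite hc ha hcM htr htr0 ha1 hc1)

end CfsgLib.Classical.GeoFour.SU
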